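import Cfsg.Agent.Lib.Grp.BaseTwo.SmallGroups

/-!
# Fixed points in semilinear actions
-/

set_option autoImplicit false
set_option linter.style.haveILetI false

namespace Cfsg.Agent.BaseTwo

open scoped commutatorElement

variable {A V : Type*} [Group A] [AddCommGroup V] [DistribMulAction A V]

/-- The vectors fixed by one element. -/
def fixPt (g : A) : AddSubgroup V where
  carrier := {v | g • v = v}
  zero_mem' := smul_zero g
  add_mem' := fun {v w} hv hw => by
    show g • (v + w) = v + w
    rw [smul_add, show g • v = v from hv, show g • w = w from hw]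
  neg_mem' := fun {v} hv => by
    show g • (-v) = -v
    rw [smul_neg, show g • v = v from hv]

theorem mem_fixPt {g : A} {v : V} : v ∈ fixPt g ↔ g • v = v := Iff.rfl

/-- The square of a fixed space against the fixed space of a commutator. -/
theorem card_fixPt_sq_le [Finite V] (g x : A) :
    Nat.card (fixPt (V := V) g) * Nat.card (fixPt (V := V) g) ≤
      Nat.card V * Nat.card (fixPt (V := V) ⁅g, x⁆) := by
  let F := fixPt (V := V) g
  let f : F × F →+ V :=
    { toFun := fun p => (p.1 : V) + x • (p.2 : V)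
      map_zero' := by simp
      map_add' := fun p p' => by
        show ((p.1 + p'.1 : F) : V) + x • ((p.2 + p'.2 : F) : V) = _
        rw [AddSubgroup.coe_add, AddSubgroup.coe_add, smul_add]
        abel }
  have hcard : Nat.card f.ker * Nat.card f.range = Nat.card F * Nat.card F := by
    rw [← AddSubgroup.index_ker, AddSubgroup.card_mul_index, Nat.card_prod]
  have hrange : Nat.card f.range ≤ Nat.card V := AddSubgroup.card_le_card_addGroup _
  have hker : Nat.card f.ker ≤ Nat.card (fixPt (V := V) ⁅g, x⁆) := by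
    have hmem : ∀ p : F × F, p ∈ f.ker → (p.1 : V) ∈ fixPt (V := V) ⁅g, x⁆ := by
      intro p hp
      have hp' : (p.1 : V) + x • (p.2 : V) = 0 := hp
      have hu : x⁻¹ • (p.1 : V) = -(p.2 : V) := by
        rw [inv_smul_eq_iff, smul_neg, eq_neg_iff_add_eq_zero]
        exact hp'
      show ⁅g, x⁆ • (p.1 : V) = p.1
      have h1 : g⁻¹ • x⁻¹ • (p.1 : V) = x⁻¹ • (p.1 : V) := by
        rw [hu, inv_smul_eq_iff, smul_neg, show g • (p.2 : V) = p.2 from p.2.2]
      rw [commutatorElement_def, mul_smul, mul_smul, mul_smul]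
      rw [show g⁻¹ • x⁻¹ • (p.1 : V) = x⁻¹ • (p.1 : V) from h1, smul_inv_smul]
      exact p.1.2
    refine Nat.card_le_card_of_injective (fun p : f.ker => (⟨_, hmem p.1 p.2⟩ : fixPt (V := V) ⁅g, x⁆)) ?_
    rintro ⟨p, hp⟩ ⟨p', hp'⟩ h
    have h1 : (p.1 : V) = p'.1 := congrArg (fun z : fixPt (V := V) ⁅g, x⁆ => (z : V)) h
    have e : (p.1 : V) + x • (p.2 : V) = 0 := hp
    have e' : (p'.1 : V) + x • (p'.2 : V) = 0 := hp'
    rw [← e', h1] at e
    have h2 : (p.2 : V) = p'.2 := MulAction.injective x (add_left_cancel e)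
    exact Subtype.ext (Prod.ext (Subtype.ext h1) (Subtype.ext h2))
  calc Nat.card F * Nat.card F = Nat.card f.ker * Nat.card f.range := hcard.symm
    _ ≤ Nat.card (fixPt (V := V) ⁅g, x⁆) * Nat.card V := Nat.mul_le_mul hker hrange
    _ = _ := mul_comm _ _

/-- The fixed space of a scalar different from one is zero. -/
theorem card_fixPt_of_scalar {K : Type*} [Field K] [Module K V] {g : A} {k : K}
    (hg : ∀ v : V, g • v = k • v) (hk : k ≠ 1) : Nat.card (fixPt (V := V) g) = 1 := by
  rw [AddSubgroup.card_eq_one, eq_bot_iff]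
  intro v hv
  have h : (k - 1) • v = 0 := by
    rw [sub_smul, one_smul, ← hg, show g • v = v from hv, sub_self]
  exact AddSubgroup.mem_bot.mpr ((smul_eq_zero.mp h).resolve_left (sub_ne_zero.mpr hk))

/-- An element conjugated to a nontrivial scalar multiple of itself fixes at most the cube root. -/
theorem card_fixPt_cube_le [Finite V] {K : Type*} [Field K] [Module K V] {y m : A} {ζ : K}
    (hy : ∀ (k : K) (v : V), y • k • v = k • y • v) (hm : ∀ (k : K) (v : V), m • k • v = k • m • v)
    (hym : ∀ v : V, y • m • v = ζ • m • y • v)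
    (h0 : ζ ≠ 0) (h1 : ζ * ζ ≠ 1) :
    Nat.card (fixPt (V := V) y) ^ 3 ≤ Nat.card V := by
  let F := fixPt (V := V) y
  let f : F × F × F →+ V :=
    { toFun := fun p => (p.1 : V) + m • (p.2.1 : V) + m • m • (p.2.2 : V)
      map_zero' := by simp
      map_add' := fun p p' => by
        show ((p.1 + p'.1 : F) : V) + m • ((p.2.1 + p'.2.1 : F) : V) + m • m • ((p.2.2 + p'.2.2 : F) : V) = _
        rw [AddSubgroup.coe_add, AddSubgroup.coe_add, AddSubgroup.coe_add, smul_add, smul_add, smul_add]
        abel }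
  have hz1 : ζ ≠ 1 := fun h => h1 (by rw [h, one_mul])
  have hinj : Function.Injective f := by
    rw [injective_iff_map_eq_zero]
    rintro ⟨a, b, c⟩ h
    change (a : V) + m • (b : V) + m • m • (c : V) = 0 at h
    set α : V := (a : V) with hα
    set β : V := m • (b : V) with hβdef
    set γ : V := m • m • (c : V) with hγdef
    have hA : y • α = α := a.2
    have hyb : y • β = ζ • β := by rw [hβdef, hym, show y • (b : V) = b from b.2]
    have hyc0 : y • (m • (c : V)) = ζ • (m • (c : V)) := by rw [hym, show y • (c : V) = c from c.2]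
    have hyc : y • γ = (ζ * ζ) • γ := by
      rw [hγdef, hym, hyc0, hm, mul_smul]
    have e0 : α + β + γ = 0 := h
    have e1 : α + ζ • β + (ζ * ζ) • γ = 0 := by
      have := congrArg (fun v => y • v) e0
      simp only [smul_add, smul_zero, hA, hyb, hyc] at this
      exact this
    have e2 : α + (ζ * ζ) • β + (ζ * ζ * (ζ * ζ)) • γ = 0 := by
      have := congrArg (fun v => y • v) e1
      simp only [smul_add, smul_zero, hA, hy, hyb, hyc, ← mul_smul] at this
      exact this
    have hd1 : (ζ - 1) • β + (ζ * ζ - 1) • γ = 0 := by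
      have : (α + ζ • β + (ζ * ζ) • γ) - (α + β + γ) = 0 := by rw [e0, e1, sub_zero]
      rw [← this, sub_smul, sub_smul, one_smul, one_smul]
      abel
    have hd2 : (ζ * ζ - ζ) • β + (ζ * ζ * (ζ * ζ) - ζ * ζ) • γ = 0 := by
      have : (α + (ζ * ζ) • β + (ζ * ζ * (ζ * ζ)) • γ) - (α + ζ • β + (ζ * ζ) • γ) = 0 := by
        rw [e1, e2, sub_zero]
      rw [← this, sub_smul, sub_smul]
      abel
    have hd3 : (ζ * (ζ - 1) * (ζ * ζ - 1)) • γ = 0 := by
      have e : ζ • ((ζ - 1) • β + (ζ * ζ - 1) • γ) = 0 := by rw [hd1, smul_zero]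
      rw [smul_add, smul_smul, smul_smul, show ζ * (ζ - 1) = ζ * ζ - ζ by ring] at e
      have h := congrArg₂ (· - ·) hd2 e
      simp only [sub_zero, add_sub_add_left_eq_sub, ← sub_smul] at h
      rw [← h]
      congr 1
      ring
    have hγ0 : γ = 0 := (smul_eq_zero.mp hd3).resolve_left
      (mul_ne_zero (mul_ne_zero h0 (sub_ne_zero.mpr hz1)) (sub_ne_zero.mpr h1))
    have hβ0 : β = 0 := by
      rw [hγ0, smul_zero, add_zero] at hd1
      exact (smul_eq_zero.mp hd1).resolve_left (sub_ne_zero.mpr hz1)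
    have hα0 : α = 0 := by rw [hβ0, hγ0, add_zero, add_zero] at e0; exact e0
    have hb0 : (b : V) = 0 := (smul_eq_zero_iff_eq m).mp hβ0
    have hc0 : (c : V) = 0 := (smul_eq_zero_iff_eq m).mp ((smul_eq_zero_iff_eq m).mp hγ0)
    exact Prod.ext (Subtype.ext hα0) (Prod.ext (Subtype.ext hb0) (Subtype.ext hc0))
  have := Nat.card_le_card_of_injective f hinj
  rw [Nat.card_prod, Nat.card_prod] at this
  rw [pow_succ, pow_two, mul_assoc]
  exact this

/-- Automorphisms of a finite field. -/
theorem two_pow_card_ringAut_le (K : Type*) [Field K] [Finite K] :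
    2 ^ Nat.card (RingAut K) ≤ Nat.card K := by
  haveI := Fintype.ofFinite K
  obtain ⟨p, hp⟩ := CharP.exists K
  haveI : Fact p.Prime := ⟨CharP.char_is_prime K p⟩
  letI : Algebra (ZMod p) K := ZMod.algebra K p
  haveI : FiniteDimensional (ZMod p) K := Module.Finite.of_finite
  have hcard : Nat.card (RingAut K) ≤ Module.finrank (ZMod p) K := by
    refine le_trans (Nat.card_le_card_of_injective (fun e : RingAut K =>
      (AlgEquiv.ofRingEquiv (f := e) (fun x => RingHom.congr_fun
        (Subsingleton.elim ((e.toRingHom).comp (algebraMap (ZMod p) K)) (algebraMap _ _)) x) :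
          K ≃ₐ[ZMod p] K)) ?_) ?_
    · intro e e' h
      exact RingEquiv.ext fun x => congrArg (fun a : K ≃ₐ[ZMod p] K => a x) h
    · rw [Nat.card_eq_fintype_card]
      exact AlgEquiv.card_le
  rw [Module.natCard_eq_pow_finrank (K := ZMod p) (V := K), Nat.card_zmod]
  exact le_trans (Nat.pow_le_pow_left (CharP.char_is_prime K p : p.Prime).two_le _)
    (Nat.pow_le_pow_right (CharP.char_is_prime K p : p.Prime).pos hcard)

end Cfsg.Agent.BaseTwo
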