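import Cfsg.Agent.Lib.Grp.BaseTwo.Gluck

/-!
# The ring generated by an abelian normal subgroup

Either it is a field or its primitive idempotents give blocks of imprimitivity.
-/

set_option autoImplicit false
set_option linter.style.haveILetI false

universe u

namespace Cfsg.Agent.BaseTwo

variable {V : Type u} [AddCommGroup V]

instance instFiniteEnd [Finite V] : Finite (AddMonoid.End V) :=
  Finite.of_injective (fun f : AddMonoid.End V => (f : V → V)) DFunLike.coe_injective

/-- An element of a linear group as an endomorphism. -/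
def toEnd (A : Subgroup (AddMonoid.End V)ˣ) : A →* AddMonoid.End V :=
  (Units.coeHom _).comp A.subtype

theorem toEnd_apply {A : Subgroup (AddMonoid.End V)ˣ} (a : A) (v : V) : toEnd A a v = a • v := rfl

/-- The ring generated by a subgroup. -/
def genRing {A : Subgroup (AddMonoid.End V)ˣ} (Z : Subgroup A) : Subring (AddMonoid.End V) :=
  Subring.closure (toEnd A '' Z)

variable {A : Subgroup (AddMonoid.End V)ˣ}

theorem toEnd_mem_genRing {Z : Subgroup A} {z : A} (hz : z ∈ Z) : toEnd A z ∈ genRing Z :=
  Subring.subset_closure ⟨z, hz, rfl⟩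

/-- The ring is commutative. -/
theorem genRing_comm {Z : Subgroup A} (hZ : ∀ a ∈ Z, ∀ b ∈ Z, a * b = b * a) :
    ∀ x ∈ genRing Z, ∀ y ∈ genRing Z, x * y = y * x := by
  intro x hx y hy
  refine Subring.closure_induction₂ (p := fun a b _ _ => a * b = b * a) ?_ ?_ ?_ ?_ ?_ ?_ ?_ ?_ ?_ ?_ ?_ hx hy
  · rintro _ _ ⟨a, ha, rfl⟩ ⟨b, hb, rfl⟩
    rw [← map_mul, hZ a ha b hb, map_mul]
  all_goals intros
  all_goals first
    | simp only [zero_mul, mul_zero]
    | simp only [one_mul, mul_one]
    | simp only [neg_mul, mul_neg, *]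
    | simp only [add_mul, mul_add, *]
    | (rename_i h1 h2; rw [mul_assoc, h2, ← mul_assoc, h1, mul_assoc])
    | (rename_i h1 h2; rw [← mul_assoc, h1, mul_assoc, h2, mul_assoc])

/-- An element commuting with the subgroup commutes with the ring. -/
theorem toEnd_commute_genRing {Z : Subgroup A} {a : A} (h : ∀ z ∈ Z, a * z = z * a) :
    ∀ r ∈ genRing Z, toEnd A a * r = r * toEnd A a := by
  intro r hr
  have : genRing Z ≤ Subring.centralizer {toEnd A a} := by
    refine Subring.closure_le.mpr ?_
    rintro _ ⟨z, hz, rfl⟩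
    refine Subring.mem_centralizer_iff.mpr fun b hb => ?_
    rw [Set.mem_singleton_iff] at hb
    rw [hb, ← map_mul, h z hz, map_mul]
  exact Subring.mem_centralizer_iff.mp (this hr) _ rfl

theorem conj_mem_genRing {Z : Subgroup A} [Z.Normal] (a : A) :
    ∀ r ∈ genRing Z, toEnd A a * r * toEnd A a⁻¹ ∈ genRing Z := by
  have h1 : toEnd A a⁻¹ * toEnd A a = 1 := by rw [← map_mul, inv_mul_cancel, map_one]
  have h2 : toEnd A a * toEnd A a⁻¹ = 1 := by rw [← map_mul, mul_inv_cancel, map_one]
  intro r hr
  induction hr using Subring.closure_induction with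
  | mem x hx =>
    obtain ⟨z, hz, rfl⟩ := hx
    rw [← map_mul, ← map_mul]
    exact toEnd_mem_genRing (Subgroup.Normal.conj_mem inferInstance z hz a)
  | zero => rw [mul_zero, zero_mul]; exact (genRing Z).zero_mem
  | one => rw [mul_one, h2]; exact (genRing Z).one_mem
  | add x y _ _ hx hy => rw [mul_add, add_mul]; exact (genRing Z).add_mem hx hy
  | neg x _ hx => rw [mul_neg, neg_mul]; exact (genRing Z).neg_mem hx
  | mul x y _ _ hx hy =>
    have e : toEnd A a * (x * y) * toEnd A a⁻¹ =
        (toEnd A a * x * toEnd A a⁻¹) * (toEnd A a * y * toEnd A a⁻¹) := by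
      calc toEnd A a * (x * y) * toEnd A a⁻¹
          = toEnd A a * x * (toEnd A a⁻¹ * toEnd A a) * y * toEnd A a⁻¹ := by rw [h1]; noncomm_ring
        _ = _ := by noncomm_ring
    rw [e]
    exact (genRing Z).mul_mem hx hy

/-- Sums of endomorphisms act pointwise. -/
theorem sum_End_apply {ι : Type*} (s : Finset ι) (f : ι → AddMonoid.End V) (v : V) :
    (∑ i ∈ s, f i) v = ∑ i ∈ s, f i v := by
  classical
  induction s using Finset.induction_on with
  | empty => rw [Finset.sum_empty, Finset.sum_empty]; rfl
  | insert x s hxs ih => rw [Finset.sum_insert hxs, Finset.sum_insert hxs, ← ih]; rfl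

variable [Finite V]

/-- The only nilpotent element is zero in the irreducible case. -/
theorem genRing_reduced (hirr : IsIrr A V) {Z : Subgroup A} [Z.Normal]
    (hZ : ∀ a ∈ Z, ∀ b ∈ Z, a * b = b * a) :
    ∀ r ∈ genRing Z, IsNilpotent r → r = 0 := by
  classical
  intro r hr hn
  haveI := Fintype.ofFinite V
  let N : Set (AddMonoid.End V) := {s | s ∈ genRing Z ∧ IsNilpotent s}
  let U : AddSubgroup V :=
    { carrier := {v | ∀ s ∈ N, s v = 0}
      zero_mem' := fun s _ => map_zero s
      add_mem' := fun {x y} hx hy s hs => by rw [map_add, hx s hs, hy s hs, add_zero]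
      neg_mem' := fun {x} hx s hs => by rw [map_neg, hx s hs, neg_zero] }
  have hU : IsInv A U := by
    intro a v hv s hs
    have hmem : toEnd A a⁻¹ * s * toEnd A a ∈ N := by
      refine ⟨by simpa using conj_mem_genRing a⁻¹ s hs.1, ?_⟩
      obtain ⟨k, hk⟩ := hs.2
      refine ⟨k, ?_⟩
      have : ∀ j : ℕ, (toEnd A a⁻¹ * s * toEnd A a) ^ j = toEnd A a⁻¹ * s ^ j * toEnd A a := by
        intro j
        induction j with
        | zero => simp only [pow_zero, mul_one]; rw [← map_mul, inv_mul_cancel, map_one]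
        | succ j ih =>
          rw [pow_succ, ih, pow_succ]
          calc toEnd A a⁻¹ * s ^ j * toEnd A a * (toEnd A a⁻¹ * s * toEnd A a)
              = toEnd A a⁻¹ * s ^ j * (toEnd A a * toEnd A a⁻¹) * s * toEnd A a := by noncomm_ring
            _ = _ := by rw [← map_mul, mul_inv_cancel, map_one]; noncomm_ring
      rw [this, hk, mul_zero, zero_mul]
    have h := hv _ hmem
    change a⁻¹ • s (a • v) = 0 at h
    rw [inv_smul_eq_iff, smul_zero] at h
    exact h
  rcases eq_or_ne U ⊤ with htop | hne
  · exact AddMonoidHom.ext fun v => (htop ▸ trivial : v ∈ U) r ⟨hr, hn⟩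
  have hbot := (hirr U hU).resolve_right hne
  rcases subsingleton_or_nontrivial V with hV | hV
  · exact AddMonoidHom.ext fun v => Subsingleton.elim _ _
  exfalso
  have key : ∀ s : Finset (AddMonoid.End V), (∀ x ∈ s, x ∈ N) → ∃ v : V, v ≠ 0 ∧ ∀ x ∈ s, x v = 0 := by
    intro s
    induction s using Finset.induction_on with
    | empty => intro _; obtain ⟨v, hv⟩ := exists_ne (0 : V); exact ⟨v, hv, by simp⟩
    | insert x s hxs ih =>
      intro hs
      obtain ⟨v, hv0, hv⟩ := ih fun y hy => hs y (Finset.mem_insert_of_mem hy)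
      obtain ⟨hxR, k, hk⟩ := hs x (Finset.mem_insert_self x s)
      have hex : ∃ j, (x ^ j) v = 0 := ⟨k, by rw [hk]; rfl⟩
      set j := Nat.find hex with hj
      have hj0 : j ≠ 0 := fun h => hv0 (by have := Nat.find_spec hex; rw [← hj, h, pow_zero] at this; exact this)
      refine ⟨(x ^ (j - 1)) v, fun h => ?_, fun y hy => ?_⟩
      · have := Nat.find_min' hex h; omega
      · rcases Finset.mem_insert.mp hy with rfl | hy
        · have := Nat.find_spec hex
          rw [← hj, show j = j - 1 + 1 by omega, pow_succ'] at this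
          exact this
        · have hcomm := genRing_comm hZ y (hs y (Finset.mem_insert_of_mem hy)).1 _ ((genRing Z).pow_mem hxR (j - 1))
          have := congrArg (fun f : AddMonoid.End V => f v) hcomm
          simp only [AddMonoid.End.coe_mul, Function.comp_apply] at this
          rw [this, hv y hy, map_zero]
  haveI : Fintype (AddMonoid.End V) := Fintype.ofFinite _
  obtain ⟨v, hv0, hv⟩ := key (Finset.univ.filter (· ∈ N)) (fun x hx => (Finset.mem_filter.mp hx).2)
  have : v ∈ U := fun s hs => hv s (Finset.mem_filter.mpr ⟨Finset.mem_univ s, hs⟩)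
  rw [hbot, AddSubgroup.mem_bot] at this
  exact hv0 this

/-- Some positive power of an element of a finite monoid is idempotent. -/
theorem exists_pow_idem {M : Type*} [Monoid M] [Finite M] (x : M) : ∃ k, 0 < k ∧ x ^ k * x ^ k = x ^ k := by
  obtain ⟨i, j, hne, heq⟩ := Finite.exists_ne_map_eq_of_infinite fun k : ℕ => x ^ k
  wlog hij : i < j generalizing i j
  · exact this j i hne.symm heq.symm (by omega)
  have key : ∀ m s, i ≤ m → x ^ (m + s * (j - i)) = x ^ m := by
    intro m s hm
    induction s with
    | zero => simp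
    | succ s ih =>
      rw [show m + (s + 1) * (j - i) = (m - i + s * (j - i)) + j by rw [Nat.succ_mul]; omega, pow_add]
      change x ^ i = x ^ j at heq
      rw [← heq, ← pow_add, show m - i + s * (j - i) + i = m + s * (j - i) by omega, ih]
  refine ⟨(i + 1) * (j - i), Nat.mul_pos (by omega) (by omega), ?_⟩
  rw [← pow_add]
  exact key _ (i + 1) (le_trans (Nat.le_succ i) (Nat.le_mul_of_pos_right _ (by omega)))

/-- Either the action is imprimitive, and a pair exists, or the ring generated by an abelian normal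
subgroup is a field. -/
theorem hasPair_or_isField (hsol : Group.IsSolvable A) (hodd : Odd (Nat.card A)) (hirr : IsIrr A V)
    [Nontrivial V] {n : ℕ} (hn : Nat.card V ≤ n + 1) (IH : ModHyp.{u} n) (Z : Subgroup A) [Z.Normal]
    (hZ : ∀ a ∈ Z, ∀ b ∈ Z, a * b = b * a) : HasPair A V ∨ IsField (genRing Z) := by
  classical
  let R := genRing Z
  have hred := genRing_reduced hirr hZ
  by_cases htriv : ∀ e : R, e * e = e → e = 0 ∨ e = 1
  · refine Or.inr { exists_pair_ne := ⟨0, 1, fun h => ?_⟩, mul_comm := fun x y => Subtype.ext (genRing_comm hZ _ x.2 _ y.2), mul_inv_cancel := ?_ }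
    · obtain ⟨v, hv⟩ := exists_ne (0 : V)
      exact hv (congrArg (fun f : R => (f : AddMonoid.End V) v) h).symm
    · intro r hr
      obtain ⟨k, hk0, hk⟩ := exists_pow_idem r
      rcases htriv _ hk with h | h
      · exfalso
        exact hr (Subtype.ext (hred _ r.2 ⟨k, by simpa using congrArg Subtype.val h⟩))
      · exact ⟨r ^ (k - 1), by rw [← pow_succ', Nat.sub_add_cancel hk0, h]⟩
  left
  push Not at htriv
  obtain ⟨e₀, he₀, he₀0, he₀1⟩ := htriv
  have hcomm : ∀ x y : R, x * y = y * x := fun x y => Subtype.ext (genRing_comm hZ _ x.2 _ y.2)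
  let Q : R → Prop := fun e => e * e = e ∧ e ≠ 0 ∧ ∀ f : R, f * f = f → e * f = f → f = 0 ∨ f = e
  let ι := {e : R // Q e}
  let c : A → R → R := fun a r => ⟨toEnd A a * r * toEnd A a⁻¹, conj_mem_genRing a r r.2⟩
  have c_mul : ∀ a r s, c a (r * s) = c a r * c a s := by
    intro a r s
    refine Subtype.ext ?_
    show toEnd A a * (r.1 * s.1) * toEnd A a⁻¹ = (toEnd A a * r.1 * toEnd A a⁻¹) * (toEnd A a * s.1 * toEnd A a⁻¹)
    calc toEnd A a * (r.1 * s.1) * toEnd A a⁻¹
        = toEnd A a * r.1 * (toEnd A a⁻¹ * toEnd A a) * s.1 * toEnd A a⁻¹ := by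
          rw [← map_mul, inv_mul_cancel, map_one]; noncomm_ring
      _ = _ := by noncomm_ring
  have c_comp : ∀ a b r, c (a * b) r = c a (c b r) := by
    intro a b r
    refine Subtype.ext ?_
    show toEnd A (a * b) * r.1 * toEnd A (a * b)⁻¹ = toEnd A a * (toEnd A b * r.1 * toEnd A b⁻¹) * toEnd A a⁻¹
    rw [mul_inv_rev, map_mul, map_mul]
    noncomm_ring
  have c_one : ∀ r, c 1 r = r := fun r => Subtype.ext (by
    show toEnd A 1 * r.1 * toEnd A (1 : A)⁻¹ = r.1
    rw [inv_one, map_one, one_mul, mul_one])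
  have c_zero : ∀ a, c a 0 = 0 := fun a => Subtype.ext (by
    show toEnd A a * 0 * toEnd A a⁻¹ = 0
    rw [mul_zero, zero_mul])
  have hcQ : ∀ a e, Q e → Q (c a e) := by
    intro a e he
    refine ⟨by rw [← c_mul, he.1], fun h => he.2.1 ?_, fun f hf hef => ?_⟩
    · rw [← c_one e, ← inv_mul_cancel a, c_comp, h, c_zero]
    · have h1 : c a⁻¹ f * c a⁻¹ f = c a⁻¹ f := by rw [← c_mul, hf]
      have h2 : e * c a⁻¹ f = c a⁻¹ f := by
        conv_rhs => rw [← hef, c_mul, ← c_comp, inv_mul_cancel, c_one]
      rcases he.2.2 _ h1 h2 with h | h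
      · left
        rw [← c_one f, ← mul_inv_cancel a, c_comp, h, c_zero]
      · right
        conv_rhs => rw [← h, ← c_comp, mul_inv_cancel, c_one]
  letI : MulAction A ι :=
    { smul := fun a e => ⟨c a e.1, hcQ a e.1 e.2⟩
      one_smul := fun e => Subtype.ext (c_one e.1)
      mul_smul := fun a b e => Subtype.ext (c_comp a b e.1) }
  haveI : Fintype ι := Fintype.ofFinite ι
  have horth : ∀ i j : ι, i ≠ j → i.1 * j.1 = 0 := by
    intro i j hij
    have hidem : (i.1 * j.1) * (i.1 * j.1) = i.1 * j.1 := by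
      rw [mul_assoc, ← mul_assoc j.1, hcomm j.1 i.1, mul_assoc i.1 j.1, j.2.1, ← mul_assoc, i.2.1]
    by_contra h0
    have e1 := (i.2.2.2 _ hidem (by rw [← mul_assoc, i.2.1])).resolve_left h0
    have e2 := (j.2.2.2 _ hidem (by rw [hcomm i.1 j.1, ← mul_assoc, j.2.1])).resolve_left h0
    exact hij (Subtype.ext (e1.symm.trans e2))
  have habove : ∀ r : R, r * r = r → r ≠ 0 → ∃ e : ι, r * e.1 = e.1 := by
    intro r hr hr0
    haveI : Fintype R := Fintype.ofFinite R
    obtain ⟨e, hemem, hmin⟩ := Finset.exists_min_image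
      (Finset.univ.filter fun e : R => e * e = e ∧ e ≠ 0 ∧ r * e = e)
      (fun e => (Finset.univ.filter fun f : R => f * f = f ∧ e * f = f).card)
      ⟨r, Finset.mem_filter.mpr ⟨Finset.mem_univ r, hr, hr0, hr⟩⟩
    obtain ⟨he, he0, hre⟩ := (Finset.mem_filter.mp hemem).2
    refine ⟨⟨e, he, he0, fun f hf hef => or_iff_not_imp_left.mpr fun hf0 => ?_⟩, hre⟩
    have hfmem : f ∈ Finset.univ.filter fun e : R => e * e = e ∧ e ≠ 0 ∧ r * e = e := by
      simp only [Finset.mem_filter, Finset.mem_univ, true_and]
      exact ⟨hf, hf0, by rw [← hef, ← mul_assoc, hre]⟩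
    have hsub : (Finset.univ.filter fun g : R => g * g = g ∧ f * g = g) ⊆
        Finset.univ.filter fun g : R => g * g = g ∧ e * g = g := by
      intro g hg
      simp only [Finset.mem_filter, Finset.mem_univ, true_and] at hg ⊢
      exact ⟨hg.1, by rw [← hg.2, ← mul_assoc, hef]⟩
    have heq := Finset.eq_of_subset_of_card_le hsub (hmin f hfmem)
    have : e ∈ Finset.univ.filter fun g : R => g * g = g ∧ f * g = g := by
      rw [heq]; simp [he]
    rw [Finset.mem_filter] at this
    rw [← this.2.2, hcomm, hef]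
  have hidemS : ∀ s : Finset ι, (∑ i ∈ s, i.1) * (∑ i ∈ s, i.1) = ∑ i ∈ s, i.1 := by
    intro s
    rw [Finset.sum_mul]
    refine Finset.sum_congr rfl fun i hi => ?_
    rw [Finset.mul_sum, Finset.sum_eq_single_of_mem i hi fun j _ hj => horth i j (Ne.symm hj), i.2.1]
  have hsum : ∑ i : ι, i.1 = 1 := by
    by_contra hne
    set s : R := ∑ i : ι, i.1
    have h1 : (1 - s) * (1 - s) = 1 - s := by
      rw [sub_mul, one_mul, mul_sub, mul_one, hidemS, sub_self, sub_zero]
    obtain ⟨e, he⟩ := habove _ h1 (sub_ne_zero.mpr (Ne.symm hne))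
    rw [sub_mul, one_mul, sub_eq_self] at he
    refine e.2.2.1 ?_
    rw [← he, Finset.sum_mul, Finset.sum_eq_single_of_mem e (Finset.mem_univ _) fun j _ hj => horth j e hj, e.2.1]
  let π : ι → AddMonoid.End V := fun i => (i.1 : AddMonoid.End V)
  have hπorth : ∀ i j, i ≠ j → ∀ v : V, π i (π j v) = 0 := fun i j hij v => by
    have := congrArg (fun f : R => (f : AddMonoid.End V) v) (horth i j hij)
    exact this
  have hequiv : ∀ (a : A) (i : ι) (v : V), a • π i v = π (a • i) (a • v) := fun a i v => by
    show a • π i v = a • π i (a⁻¹ • a • v)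
    rw [inv_smul_smul]
  haveI : Nontrivial ι := by
    by_contra h
    rw [not_nontrivial_iff_subsingleton] at h
    obtain ⟨e, he⟩ := habove _ he₀ he₀0
    have he1 : e.1 = 1 := by
      rw [← hsum, Finset.sum_eq_single_of_mem e (Finset.mem_univ _) fun j _ hj => absurd (Subsingleton.elim j e) hj]
    rw [he1, mul_one] at he
    exact he₀1 he
  haveI : MulAction.IsPretransitive A ι := by
    refine ⟨fun i j => ?_⟩
    by_contra hno
    push Not at hno
    let s := Finset.univ.filter (fun k : ι => k ∈ MulAction.orbit A i)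
    let σ : R := ∑ k ∈ s, k.1
    let U : AddSubgroup V := ((σ : AddMonoid.End V) : V →+ V).range
    have hσ : (σ : AddMonoid.End V) = ∑ k ∈ s, π k := AddSubmonoidClass.coe_finset_sum _ _
    have hU : IsInv A U := by
      rintro a _ ⟨v, rfl⟩
      refine ⟨a • v, ?_⟩
      rw [hσ]
      show (∑ k ∈ s, π k) (a • v) = a • (∑ k ∈ s, π k) v
      rw [sum_End_apply, sum_End_apply, Finset.smul_sum]
      refine (Finset.sum_bij (fun k _ => a • k) ?_ ?_ ?_ ?_).symm
      · intro k hk
        simp only [s, Finset.mem_filter, Finset.mem_univ, true_and] at hk ⊢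
        exact MulAction.mem_orbit_of_mem_orbit a hk
      · intro k _ l _ h; exact MulAction.injective a h
      · intro k hk
        refine ⟨a⁻¹ • k, ?_, smul_inv_smul a k⟩
        simp only [s, Finset.mem_filter, Finset.mem_univ, true_and] at hk ⊢
        exact MulAction.mem_orbit_of_mem_orbit a⁻¹ hk
      · intro k _; exact hequiv a k v
    have his : i ∈ s := by simp [s, MulAction.mem_orbit_self]
    have hjs : j ∉ s := by
      simp only [s, Finset.mem_filter, Finset.mem_univ, true_and]
      rintro ⟨a, ha⟩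
      exact hno a ha
    rcases hirr U hU with h | h
    · refine i.2.2.1 ?_
      have hz : σ = 0 := Subtype.ext (AddMonoidHom.ext fun v => AddSubgroup.mem_bot.mp (h ▸ ⟨v, rfl⟩))
      have : i.1 * σ = i.1 := by
        rw [Finset.mul_sum, Finset.sum_eq_single_of_mem i his fun k _ hk => horth i k (Ne.symm hk), i.2.1]
      rw [hz, mul_zero] at this
      exact this.symm
    · refine j.2.2.1 ?_
      have hone : σ = 1 := by
        refine Subtype.ext (AddMonoidHom.ext fun v => ?_)
        obtain ⟨w, rfl⟩ : v ∈ U := h ▸ trivial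
        exact congrArg (fun f : R => (f : AddMonoid.End V) w) (hidemS s)
      have : j.1 * σ = 0 := by
        rw [Finset.mul_sum]
        exact Finset.sum_eq_zero fun k hk => horth j k fun h => hjs (h ▸ hk)
      rwa [hone, mul_one] at this
  have hπne : ∀ i, π i ≠ 0 := fun i h => i.2.2.1 (Subtype.ext h)
  have hcardι : Nat.card ι ≤ n := by
    have hvec : ∀ i : ι, ∃ v : V, π i v ≠ 0 := fun i => by
      by_contra h
      push Not at h
      exact hπne i (AddMonoidHom.ext h)
    choose w hw using hvec
    have hidem : ∀ i : ι, ∀ v : V, π i (π i v) = π i v := fun i v =>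
      congrArg (fun f : R => (f : AddMonoid.End V) v) i.2.1
    have hinj : Function.Injective (fun o : Option ι => o.elim (0 : V) fun i => π i (w i)) := by
      intro o o' h
      cases o with
      | none => cases o' with
        | none => rfl
        | some j => exact absurd h.symm (hw j)
      | some i => cases o' with
        | none => exact absurd h (hw i)
        | some j =>
          by_contra hne
          have := congrArg (π i) h
          simp only [Option.elim] at this
          rw [hidem, hπorth i j (fun e => hne (congrArg some e))] at this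
          exact hw i this
    have := Nat.card_le_card_of_injective _ hinj
    rw [Finite.card_option] at this
    omega
  obtain ⟨S, hS⟩ := gluck IH (Nat.card ι) hcardι A ι hsol hodd le_rfl
  refine hasPair_of_blocks hsol hodd hirr hn IH π
    (fun i v => congrArg (fun f : R => (f : AddMonoid.End V) v) i.2.1) hπorth ?_ hequiv hπne S hS
  intro v
  have h1 : (((∑ i : ι, i.1 : R)) : AddMonoid.End V) = 1 := congrArg Subtype.val hsum
  rw [AddSubmonoidClass.coe_finset_sum] at h1
  rw [← sum_End_apply]
  exact congrArg (fun f : AddMonoid.End V => f v) h1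

end Cfsg.Agent.BaseTwo
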