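import Mathlib

/-!
# The layer above a maximal abelian normal subgroup

For a maximal abelian normal subgroup `Z` of a solvable group, the product of the minimal normal
subgroups above `Z` inside the centraliser of `Z`.
-/

set_option autoImplicit false
set_option linter.style.haveILetI false

namespace Cfsg.Agent.BaseTwo

open scoped commutatorElement

variable {A : Type*} [Group A]

/-- A normal subgroup which is minimal above `Z` inside `C`. -/
def IsFactor (Z C L : Subgroup A) : Prop :=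
  L.Normal ∧ Z < L ∧ L ≤ C ∧ ∀ X : Subgroup A, X.Normal → Z < X → X ≤ L → X = L

theorem exists_factor [Finite A] (Z C X : Subgroup A) (hX : X.Normal) (hZX : Z < X) (hXC : X ≤ C) :
    ∃ L, IsFactor Z C L ∧ L ≤ X := by
  obtain ⟨L, ⟨hLn, hZL, hLX⟩, hmin⟩ := ({Y : Subgroup A | Y.Normal ∧ Z < Y ∧ Y ≤ X}).toFinite.exists_minimal
    ⟨X, hX, hZX, le_rfl⟩
  exact ⟨L, ⟨hLn, hZL, hLX.trans hXC, fun Y hY hZY hYL =>
    le_antisymm hYL (hmin ⟨hY, hZY, hYL.trans hLX⟩ hYL)⟩, hLX⟩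

/-- A minimal normal subgroup above `Z` is abelian modulo `Z`. -/
theorem commutator_le_of_factor (hsol : Group.IsSolvable A) {Z C L : Subgroup A} [Z.Normal]
    (hL : IsFactor Z C L) : ⁅L, L⁆ ≤ Z := by
  haveI := hL.1
  let f := QuotientGroup.mk' Z
  by_contra h
  have hX : ⁅L, L⁆ ⊔ Z = L := by
    refine hL.2.2.2 _ inferInstance (lt_of_le_of_ne le_sup_right fun e => h ?_) ?_
    · exact le_trans le_sup_left e.ge
    · exact sup_le (Subgroup.commutator_le_self L) hL.2.1.le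
  have hmapZ : Z.map f = ⊥ := by
    rw [Subgroup.map_eq_bot_iff, QuotientGroup.ker_mk']
  have hfix : L.map f = ⁅L.map f, L.map f⁆ := by
    rw [← Subgroup.map_commutator]
    nth_rewrite 1 [← hX]
    rw [Subgroup.map_sup, hmapZ, sup_bot_eq]
  obtain ⟨k, hk⟩ : Group.IsSolvable (A ⧸ Z) := by
    haveI := hsol
    exact Group.isSolvable_of_surjective (QuotientGroup.mk'_surjective Z)
  have hle : ∀ m, L.map f ≤ derivedSeries (A ⧸ Z) m := by
    intro m
    induction m with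
    | zero => rw [derivedSeries_zero]; exact le_top
    | succ m ih => rw [derivedSeries_succ, hfix]; exact Subgroup.commutator_mono ih ih
  have hbot : L.map f = ⊥ := le_bot_iff.mp (hk ▸ hle k)
  rw [Subgroup.map_eq_bot_iff, QuotientGroup.ker_mk'] at hbot
  exact absurd hbot hL.2.1.not_ge

theorem commutator_le_of_factors (hsol : Group.IsSolvable A) {Z C L L' : Subgroup A} [Z.Normal]
    (hL : IsFactor Z C L) (hL' : IsFactor Z C L') : ⁅L, L'⁆ ≤ Z := by
  haveI := hL.1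
  haveI := hL'.1
  by_cases h : L ⊓ L' = Z
  · exact h ▸ Subgroup.commutator_le_inf L L'
  have hlt : Z < L ⊓ L' := lt_of_le_of_ne (le_inf hL.2.1.le hL'.2.1.le) (Ne.symm h)
  have e1 := hL.2.2.2 _ inferInstance hlt inf_le_left
  have e2 := hL'.2.2.2 _ inferInstance hlt inf_le_right
  rw [e1] at e2
  rw [← e2]
  exact commutator_le_of_factor hsol hL

/-- The layer and its properties. -/
theorem exists_layer [Finite A] (hsol : Group.IsSolvable A) (Z C : Subgroup A) [Z.Normal] [C.Normal]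
    (hZC : Z < C) (hcent : ∀ z ∈ Z, ∀ c ∈ C, z * c = c * z)
    (hmax : ∀ Y : Subgroup A, Y.Normal → (∀ a ∈ Y, ∀ b ∈ Y, a * b = b * a) → Z ≤ Y → Y = Z) :
    ∃ M : Subgroup A, M.Normal ∧ Z < M ∧ M ≤ C ∧ (∀ x ∈ M, ∀ y ∈ M, ⁅x, y⁆ ∈ Z) ∧
      (∀ x ∈ M, (∀ y ∈ M, x * y = y * x) → x ∈ Z) ∧
      (∀ g ∈ C, (∀ y ∈ M, g * y = y * g) → g ∈ Z) ∧
      ∀ X : Subgroup A, X.Normal → Z ≤ X → X ≤ M →
        ∃ Y : Subgroup A, Y.Normal ∧ Z ≤ Y ∧ Y ≤ M ∧ X ⊓ Y = Z ∧ X ⊔ Y = M := by
  let ι := {L : Subgroup A // IsFactor Z C L}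
  let M : Subgroup A := ⨆ L : ι, L.1
  haveI : ∀ L : ι, L.1.Normal := fun L => L.2.1
  have hMn : M.Normal := Subgroup.iSup_normal (fun L : ι => L.1)
  obtain ⟨L₀, hL₀, -⟩ := exists_factor Z C C inferInstance hZC le_rfl
  have hLM : ∀ L, IsFactor Z C L → L ≤ M := fun L hL => le_iSup (fun L : ι => L.1) ⟨L, hL⟩
  have hZM : Z < M := lt_of_lt_of_le hL₀.2.1 (hLM L₀ hL₀)
  have hMC : M ≤ C := iSup_le fun L => L.2.2.2.1
  have hcomm : ⁅M, M⁆ ≤ Z := by
    rw [← QuotientGroup.ker_mk' Z, ← Subgroup.map_eq_bot_iff, Subgroup.map_commutator,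
      Subgroup.commutator_eq_bot_iff_le_centralizer, Subgroup.map_iSup]
    refine iSup_le fun L => ?_
    rw [Subgroup.le_centralizer_iff]
    refine iSup_le fun L' => ?_
    rw [← Subgroup.commutator_eq_bot_iff_le_centralizer, ← Subgroup.map_commutator,
      Subgroup.map_eq_bot_iff, QuotientGroup.ker_mk']
    exact commutator_le_of_factors hsol L'.2 L.2
  have hcenM : ∀ x ∈ M, (∀ y ∈ M, x * y = y * x) → x ∈ Z := by
    intro x hx hxy
    haveI := hMn
    have e := hmax (M ⊓ Subgroup.centralizer (M : Set A)) inferInstance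
      (fun a ha b hb => ((Subgroup.mem_centralizer_iff.mp ha.2) b hb.1).symm)
      (le_inf hZM.le fun z hz => Subgroup.mem_centralizer_iff.mpr fun m hm => (hcent z hz m (hMC hm)).symm)
    rw [← e]
    exact ⟨hx, Subgroup.mem_centralizer_iff.mpr fun y hy => (hxy y hy).symm⟩
  refine ⟨M, hMn, hZM, hMC, fun x hx y hy => hcomm (Subgroup.commutator_mem_commutator hx hy), hcenM, ?_, ?_⟩
  · intro g hg hgM
    haveI := hMn
    set D := C ⊓ Subgroup.centralizer (M : Set A) with hD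
    have hZD : Z ≤ D := le_inf hZC.le fun z hz =>
      Subgroup.mem_centralizer_iff.mpr fun m hm => (hcent z hz m (hMC hm)).symm
    rcases eq_or_lt_of_le hZD with e | hlt
    · rw [e]; exact ⟨hg, Subgroup.mem_centralizer_iff.mpr fun y hy => (hgM y hy).symm⟩
    exfalso
    obtain ⟨L, hL, hLD⟩ := exists_factor Z C D inferInstance hlt inf_le_left
    refine hL.2.1.not_ge fun x hx => hcenM x (hLM L hL hx) fun y hy => ?_
    exact (Subgroup.mem_centralizer_iff.mp (hLD hx).2 y hy).symm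
  · intro X hX hZX hXM
    obtain ⟨Y, ⟨hYn, hZY, hYM, hXY⟩, hmaxY⟩ :=
      ({Y : Subgroup A | Y.Normal ∧ Z ≤ Y ∧ Y ≤ M ∧ X ⊓ Y = Z}).toFinite.exists_maximal
        ⟨Z, inferInstance, le_rfl, hZM.le, inf_eq_right.mpr hZX⟩
    refine ⟨Y, hYn, hZY, hYM, hXY, le_antisymm (sup_le hXM hYM) (iSup_le fun L => ?_)⟩
    by_contra hLXY
    haveI := hX
    haveI := hYn
    haveI := L.2.1
    have hZint : L.1 ⊓ (X ⊔ Y) = Z := by
      by_contra hne
      refine hLXY (le_trans ?_ (inf_le_right : L.1 ⊓ (X ⊔ Y) ≤ X ⊔ Y))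
      exact (L.2.2.2.2 _ inferInstance
        (lt_of_le_of_ne (le_inf L.2.2.1.le (le_trans hZX le_sup_left)) (Ne.symm hne)) inf_le_left).ge
    have hnew : X ⊓ (Y ⊔ L.1) = Z := by
      refine le_antisymm ?_ (le_inf hZX (le_trans hZY le_sup_left))
      intro x hx
      obtain ⟨y, hy, l, hl, hyl⟩ := Subgroup.mem_sup_of_normal_right.mp hx.2
      have hlmem : l ∈ L.1 ⊓ (X ⊔ Y) := by
        refine ⟨hl, ?_⟩
        have : l = y⁻¹ * x := by rw [← hyl, inv_mul_cancel_left]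
        rw [this]
        exact mul_mem (Subgroup.mem_sup_right (inv_mem hy)) (Subgroup.mem_sup_left hx.1)
      rw [hZint] at hlmem
      rw [← hXY]
      exact ⟨hx.1, hyl ▸ mul_mem hy (hZY hlmem)⟩
    have hge := hmaxY ⟨inferInstance, le_trans hZY le_sup_left, sup_le hYM (hLM L.1 L.2), hnew⟩ le_sup_left
    exact hLXY (le_trans (le_trans le_sup_right hge) le_sup_right)

end Cfsg.Agent.BaseTwo
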