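import Cfsg.Agent.Lib.Grp.BaseTwo.Primitive

/-!
# Two vectors with trivial common stabiliser for solvable groups of odd order
-/

set_option autoImplicit false
set_option linter.style.haveILetI false

universe u v

namespace Cfsg.Agent.BaseTwo

variable {A V : Type*} [Group A] [AddCommGroup V] [DistribMulAction A V]

variable (A V) in
/-- The image in the group of automorphisms. -/
def linHom : A →* (AddMonoid.End V)ˣ := (DistribMulAction.toAddMonoidEnd A V).toHomUnits

theorem linHom_smul (a : A) (x : V) :
    (⟨linHom A V a, a, rfl⟩ : (linHom A V).range) • x = a • x := rfl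

/-- Invariant subgroups do not see the kernel. -/
theorem isInv_range {U : AddSubgroup V} : IsInv (linHom A V).range U ↔ IsInv A U := by
  constructor
  · intro h a v hv
    exact h ⟨linHom A V a, a, rfl⟩ v hv
  · rintro h ⟨_, a, rfl⟩ v hv
    exact h a v hv

theorem hasPair_of_range (h : HasPair (linHom A V).range V) : HasPair A V := by
  obtain ⟨v, w, hvw⟩ := h
  exact ⟨v, w, fun a h1 h2 x => hvw ⟨linHom A V a, a, rfl⟩ h1 h2 x⟩

theorem isCR_range (h : IsCR A V) : IsCR (linHom A V).range V := by
  intro U hU
  obtain ⟨W, hW, h1, h2⟩ := h U (isInv_range.mp hU)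
  exact ⟨W, isInv_range.mpr hW, h1, h2⟩

theorem isIrr_range (h : IsIrr A V) : IsIrr (linHom A V).range V := fun U hU => h U (isInv_range.mp hU)

/-- Pairs exist for completely reducible modules of solvable groups of odd order. -/
theorem modHyp : ∀ n : ℕ, ModHyp.{u} n := by
  intro n
  induction n with
  | zero =>
    intro A V _ _ _ _ _ _ _ _ hn
    have : 0 < Nat.card V := Nat.card_pos
    omega
  | succ n ih =>
    intro A V _ _ _ _ _ hsol hodd hcr hn
    haveI := hsol
    rcases subsingleton_or_nontrivial V with hV | hV
    · exact ⟨0, 0, fun a _ _ x => Subsingleton.elim _ _⟩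
    by_cases hirr : IsIrr A V
    · exact hasPair_of_range (hasPair_irreducible (linHom A V).range
        (Group.isSolvable_of_surjective (linHom A V).rangeRestrict_surjective)
        (hodd.of_dvd_nat (Subgroup.card_range_dvd _)) (isIrr_range hirr) hn ih)
    · exact hasPair_of_reducible hsol hodd hcr hn ih hirr

/-- A completely reducible faithful group of odd order has two vectors with trivial common stabiliser,
given that such groups are solvable. -/
theorem exists_pair_odd (hFT : ∀ (K : Type v) [Group K] [Finite K], Odd (Nat.card K) → Group.IsSolvable K)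
    {A : Type u} {V : Type v} [Group A] [Finite A] [AddCommGroup V] [Finite V] [DistribMulAction A V]
    [FaithfulSMul A V] (hA : Odd (Nat.card A)) (hcr : IsCR A V) :
    ∃ v w : V, ∀ a : A, a • v = v → a • w = w → a = 1 := by
  haveI : Finite (linHom A V).range := Finite.of_surjective _ (linHom A V).rangeRestrict_surjective
  have hodd : Odd (Nat.card (linHom A V).range) := hA.of_dvd_nat (Subgroup.card_range_dvd _)
  obtain ⟨v, w, h⟩ := hasPair_of_range
    (modHyp (Nat.card V) (linHom A V).range V (hFT _ hodd) hodd (isCR_range hcr) le_rfl)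
  exact ⟨v, w, fun a h1 h2 => eq_of_smul_eq_smul fun x : V => by rw [h a h1 h2 x, one_smul]⟩

/-- The same for solvable groups, with no further hypothesis. -/
theorem exists_pair_solvable {A : Type u} {V : Type v} [Group A] [Finite A] [Group.IsSolvable A]
    [AddCommGroup V] [Finite V] [DistribMulAction A V] [FaithfulSMul A V] (hA : Odd (Nat.card A))
    (hcr : IsCR A V) : ∃ v w : V, ∀ a : A, a • v = v → a • w = w → a = 1 := by
  haveI : Finite (linHom A V).range := Finite.of_surjective _ (linHom A V).rangeRestrict_surjective
  have hodd : Odd (Nat.card (linHom A V).range) := hA.of_dvd_nat (Subgroup.card_range_dvd _)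
  obtain ⟨v, w, h⟩ := hasPair_of_range
    (modHyp (Nat.card V) (linHom A V).range V
      (Group.isSolvable_of_surjective (linHom A V).rangeRestrict_surjective) hodd (isCR_range hcr) le_rfl)
  exact ⟨v, w, fun a h1 h2 => eq_of_smul_eq_smul fun x : V => by rw [h a h1 h2 x, one_smul]⟩

end Cfsg.Agent.BaseTwo
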