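import Mathlib

/-!
# The numerical inequalities of the counting arguments
-/

set_option autoImplicit false

namespace Cfsg.Agent.BaseTwo

theorem perm_bound_prime {n : ℕ} (hn : 3 ≤ n) : n * (n - 1) * 2 ^ ((n + 2) / 3) ≤ 2 ^ (n + 2) := by
  have key : ∀ m, 4 ≤ m → m ^ 6 ≤ 2 ^ (2 * m + 4) := by
    intro m hm
    induction m, hm using Nat.le_induction with
    | base => norm_num
    | succ m hm ih =>
      have h1 : (m + 1) * 4 ≤ 5 * m := by omega
      have h2 : (m + 1) ^ 6 * 4 ^ 6 ≤ 5 ^ 6 * m ^ 6 := by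
        rw [← mul_pow, ← mul_pow]; exact Nat.pow_le_pow_left h1 6
      rw [show 2 * (m + 1) + 4 = (2 * m + 4) + 2 by ring, pow_add]
      norm_num at h2
      nlinarith [Nat.zero_le (2 ^ (2 * m + 4))]
  have h6 : n ^ 6 ≤ 2 ^ (2 * n + 4) := by
    rcases Nat.lt_or_ge n 4 with h | h
    · interval_cases n; norm_num
    · exact key n h
  set c := (n + 2) / 3
  refine le_of_pow_le_pow_left₀ (n := 3) (by norm_num) (Nat.zero_le _) ?_
  calc (n * (n - 1) * 2 ^ c) ^ 3 ≤ (n * n * 2 ^ c) ^ 3 := by gcongr; omega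
    _ = n ^ 6 * 2 ^ (3 * c) := by ring
    _ ≤ 2 ^ (2 * n + 4) * 2 ^ (n + 2) := Nat.mul_le_mul h6 (Nat.pow_le_pow_right (by norm_num) (by omega))
    _ = (2 ^ (n + 2)) ^ 3 := by rw [← pow_add, ← pow_mul]; congr 1; ring

theorem perm_bound_large {n : ℕ} (hn : 49 ≤ n) : n ^ 3 * 2 ^ (5 * n / 9) ≤ 2 ^ (n + 3) := by
  have key : n ^ 27 ≤ 2 ^ (4 * n) := by
    induction n, hn using Nat.le_induction with
    | base => norm_num
    | succ m hm ih =>
      have h1 : (m + 1) * 49 ≤ 50 * m := by omega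
      have h2 : (m + 1) ^ 27 * 49 ^ 27 ≤ 50 ^ 27 * m ^ 27 := by
        rw [← mul_pow, ← mul_pow]; exact Nat.pow_le_pow_left h1 27
      have h3 : (50 : ℕ) ^ 27 ≤ 16 * 49 ^ 27 := by norm_num
      have h4 : (m + 1) ^ 27 * 49 ^ 27 ≤ 16 * m ^ 27 * 49 ^ 27 :=
        h2.trans ((Nat.mul_le_mul_right _ h3).trans (le_of_eq (by ring)))
      rw [show 4 * (m + 1) = 4 * m + 4 by ring, pow_add]
      calc (m + 1) ^ 27 ≤ 16 * m ^ 27 := Nat.le_of_mul_le_mul_right h4 (by positivity)
        _ ≤ 2 ^ (4 * m) * 2 ^ 4 := by rw [mul_comm]; exact Nat.mul_le_mul ih le_rfl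
  set c := 5 * n / 9
  refine le_of_pow_le_pow_left₀ (n := 9) (by norm_num) (Nat.zero_le _) ?_
  calc (n ^ 3 * 2 ^ c) ^ 9 = n ^ 27 * 2 ^ (9 * c) := by ring
    _ ≤ 2 ^ (4 * n) * 2 ^ (5 * n) := Nat.mul_le_mul key (Nat.pow_le_pow_right (by norm_num) (by omega))
    _ = 2 ^ (9 * n) := by rw [← pow_add]; congr 1; ring
    _ ≤ 2 ^ (9 * (n + 3)) := Nat.pow_le_pow_right (by norm_num) (by omega)
    _ = (2 ^ (n + 3)) ^ 9 := by rw [← pow_mul, mul_comm]

theorem sq_pred_lt_two_pow (b : ℕ) : (b - 1) ^ 2 < 2 ^ b := by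
  induction b with
  | zero => norm_num
  | succ b ih =>
    rcases Nat.lt_or_ge b 4 with h | h
    · interval_cases b <;> norm_num
    · obtain ⟨c, rfl⟩ : ∃ c, b = c + 1 := ⟨b - 1, by omega⟩
      simp only [Nat.add_sub_cancel] at ih ⊢
      rw [pow_succ 2]
      nlinarith

/-- The primes dividing a small odd number to the first power only. -/
private def primeList : List ℕ := [3, 5, 7, 11, 13, 17, 19, 23, 29, 31, 37, 41, 43, 47, 53, 59, 61, 67, 71, 73, 79, 83, 89, 97, 101, 103, 107, 109, 113, 127, 131, 137, 139, 149, 151, 157, 163, 167, 173, 179, 181, 191, 193, 197, 199, 211, 223, 227, 229, 233, 239, 241, 251, 257, 263, 269, 271, 277, 281, 283, 293, 307, 311, 313, 317, 331, 337, 347, 349, 353, 359, 367, 373, 379, 383, 389, 397]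

theorem primeList_prime : ∀ r ∈ primeList, r.Prime := by
  intro r hr
  simp only [primeList, List.mem_cons, List.not_mem_nil, or_false] at hr
  rcases hr with rfl | rfl | rfl | rfl | rfl | rfl | rfl | rfl | rfl | rfl | rfl | rfl | rfl | rfl | rfl | rfl | rfl | rfl | rfl | rfl | rfl | rfl | rfl | rfl | rfl | rfl | rfl | rfl | rfl | rfl | rfl | rfl | rfl | rfl | rfl | rfl | rfl | rfl | rfl | rfl | rfl | rfl | rfl | rfl | rfl | rfl | rfl | rfl | rfl | rfl | rfl | rfl | rfl | rfl | rfl | rfl | rfl | rfl | rfl | rfl | rfl | rfl | rfl | rfl | rfl | rfl | rfl | rfl | rfl | rfl | rfl | rfl | rfl | rfl | rfl | rfl | rfl <;> norm_num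

private theorem small_aux : ((List.range 401).all fun E =>
    !(E % 2 == 1 && decide (9 ≤ E) && E != 27 && primeList.all fun r => E % r != 0 || E % (r * r) == 0) ||
      [9,25,49,81,121,125,169,225,243,289,343,361].contains E) = true := by
  decide +kernel

private def caseTable : List (ℕ × ℕ × ℕ) := [(9, 1, 4), (25, 3, 7), (49, 600, 8), (81, 5, 4), (121, 3660, 12), (125, 3906, 7), (169, 7140, 14), (225, 12656, 6), (243, 14762, 4), (289, 20880, 18), (343, 29412, 8), (361, 32580, 20)]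

private theorem case_aux : ((List.range 21).all fun t => caseTable.all fun x =>
    decide (t < 3) || decide (t * t < x.1) || (t == 3 && x.1 == 9) ||
      decide (5 * (x.1 * x.2.1) ≤ 8 * x.2.2 ^ (2 * t - max (2 * ((t + t / 3) / 2)) (t + 1) - 1))) = true := by
  decide +kernel

private theorem case_bound {t E H Q : ℕ} (h : (E, H, Q) ∈ caseTable) (ht : 3 ≤ t) (ht' : t < 21)
    (hE : E ≤ t * t) (hne : ¬ (t = 3 ∧ E = 9)) :
    5 * (E * H) ≤ 8 * Q ^ (2 * t - max (2 * ((t + t / 3) / 2)) (t + 1) - 1) := by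
  have h1 := List.all_eq_true.mp case_aux t (List.mem_range.mpr ht')
  have h2 := List.all_eq_true.mp h1 _ h
  simp only [Bool.or_eq_true, decide_eq_true_eq, Bool.and_eq_true, beq_iff_eq] at h2
  omega

/-- The squareful odd numbers up to 400, other than 27. -/
theorem small_list {E : ℕ} (h400 : E ≤ 400) (hodd : Odd E) (h9 : 9 ≤ E) (h27 : E ≠ 27)
    (hsq : ∀ r : ℕ, r.Prime → r ∣ E → r ^ 2 ∣ E) : E ∈ [9,25,49,81,121,125,169,225,243,289,343,361] := by
  have h1 := List.all_eq_true.mp small_aux E (List.mem_range.mpr (by omega))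
  simp only [Bool.or_eq_true, Bool.not_eq_true', List.contains_eq_mem, decide_eq_true_eq] at h1
  refine h1.resolve_left fun h => ?_
  rw [Bool.eq_false_iff] at h
  refine h ?_
  simp only [Bool.and_eq_true, decide_eq_true_eq, beq_iff_eq, bne_iff_ne, List.all_eq_true, Bool.or_eq_true]
  refine ⟨⟨⟨Nat.odd_iff.mp hodd, h9⟩, h27⟩, fun r hr => ?_⟩
  by_cases hd : E % r = 0
  · exact Or.inr (Nat.mod_eq_zero_of_dvd (pow_two r ▸ hsq r (primeList_prime r hr) (Nat.dvd_of_mod_eq_zero hd)))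
  · exact Or.inl hd

/-- The counting inequality for a primitive module. -/
theorem count_bound {q t E H b f : ℕ} (hq : IsPrimePow q) (hb : Odd b) (hbq : 2 ^ b ≤ q) (ht : 3 ≤ t)
    (hE : E ≤ t * t) (hodd : Odd E) (h9 : 9 ≤ E) (h27 : E ≠ 27)
    (hsq : ∀ r : ℕ, r.Prime → r ∣ E → r ^ 2 ∣ E) (hqr : ∀ r : ℕ, r.Prime → r ∣ E → r < q)
    (hH : 4 * H ≤ E * E) (hH9 : E = 9 → H ≤ 1) (hH25 : E = 25 → H ≤ 3) (hH81 : E = 81 → H ≤ 5)
    (hf : 2 * f ≤ t + t / 3) :
    (q - 1) * E * H * ((b - 1) * q ^ t + q ^ (2 * f)) < 2 * q ^ (2 * t) := by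
  obtain ⟨r₀, hr₀, hr₀E⟩ := Nat.exists_prime_and_dvd (by omega : E ≠ 1)
  have hr3 : 3 ≤ r₀ := by
    rcases hr₀.eq_two_or_odd' with rfl | h
    · exact absurd (hodd.of_dvd_nat hr₀E) (by decide)
    · obtain ⟨k, hk⟩ := h; have := hr₀.two_le; omega
  have hq4 : 4 ≤ q := by have := hqr r₀ hr₀ hr₀E; omega
  have hb' : b = 1 ∨ (4 * (b - 1) ≤ q ∧ 8 ≤ q) := by
    obtain ⟨k, rfl⟩ := hb
    rcases Nat.eq_zero_or_pos k with rfl | hk
    · exact Or.inl rfl
    · refine Or.inr ⟨?_, ?_⟩
      · have key : ∀ j, 1 ≤ j → 4 * (2 * j) ≤ 2 ^ (2 * j + 1) := by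
          intro j hj
          induction j, hj using Nat.le_induction with
          | base => norm_num
          | succ j hj ih => rw [show 2 * (j + 1) + 1 = (2 * j + 1) + 2 by ring, pow_add]; omega
        calc 4 * (2 * k + 1 - 1) = 4 * (2 * k) := by rw [Nat.add_sub_cancel]
          _ ≤ q := (key k hk).trans hbq
      · exact le_trans (Nat.pow_le_pow_right (show 1 ≤ 2 by norm_num) (show 3 ≤ 2 * k + 1 by omega)) hbq
  by_cases h39 : t = 3 ∧ E = 9
  · obtain ⟨rfl, rfl⟩ := h39
    have hH1 := hH9 rfl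
    have hf2 : q ^ (2 * f) ≤ q ^ 4 := Nat.pow_le_pow_right (by omega) (by omega)
    rcases hb' with rfl | ⟨h4, h8⟩
    · calc (q - 1) * 9 * H * ((1 - 1) * q ^ 3 + q ^ (2 * f))
          ≤ (q - 1) * 9 * 1 * q ^ 4 := by simp only [Nat.sub_self, zero_mul, zero_add]; gcongr
        _ < 2 * q ^ (2 * 3) := by
          rw [show 2 * q ^ (2 * 3) = 2 * q ^ 2 * q ^ 4 by ring]
          refine Nat.mul_lt_mul_of_pos_right ?_ (by positivity)
          obtain ⟨j, rfl⟩ : ∃ j, q = j + 4 := ⟨q - 4, by omega⟩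
          simp only [show j + 4 - 1 = j + 3 by omega]
          nlinarith
    · refine Nat.lt_of_mul_lt_mul_left (a := 4) ?_
      calc 4 * ((q - 1) * 9 * H * ((b - 1) * q ^ 3 + q ^ (2 * f)))
          ≤ 4 * ((q - 1) * 9 * 1 * ((b - 1) * q ^ 3 + q ^ 4)) := by gcongr
        _ = (q - 1) * 9 * (4 * (b - 1) + 4 * q) * q ^ 3 := by ring
        _ ≤ (q - 1) * 9 * (5 * q) * q ^ 3 := by gcongr; omega
        _ < 4 * (2 * q ^ (2 * 3)) := by
          rw [show 4 * (2 * q ^ (2 * 3)) = 8 * q ^ 2 * q * q ^ 3 by ring]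
          refine Nat.mul_lt_mul_of_pos_right ?_ (by positivity)
          rw [← mul_assoc]
          refine Nat.mul_lt_mul_of_pos_right ?_ (by omega)
          obtain ⟨j, rfl⟩ : ∃ j, q = j + 8 := ⟨q - 8, by omega⟩
          simp only [show j + 8 - 1 = j + 7 by omega]
          nlinarith
  set d := (t + t / 3) / 2 with hd
  set m := max (2 * d) (t + 1) with hm
  have hm2 : m < 2 * t := by omega
  have hX : 4 * ((b - 1) * q ^ t + q ^ (2 * f)) ≤ 5 * q ^ m := by
    have h1 : q ^ (2 * f) ≤ q ^ m := Nat.pow_le_pow_right (by omega) (by omega)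
    rcases hb' with rfl | ⟨h4, -⟩
    · simp only [Nat.sub_self, zero_mul, zero_add]; omega
    · have h2 : 4 * ((b - 1) * q ^ t) ≤ q ^ m :=
        calc 4 * ((b - 1) * q ^ t) = 4 * (b - 1) * q ^ t := by ring
          _ ≤ q * q ^ t := by gcongr
          _ = q ^ (t + 1) := by rw [pow_succ, mul_comm]
          _ ≤ q ^ m := Nat.pow_le_pow_right (by omega) (by omega)
      omega
  have key : 5 * (E * H) ≤ 8 * q ^ (2 * t - m - 1) := by
    rcases Nat.lt_or_ge t 21 with ht21 | ht21
    · have hEmem := small_list (hE.trans (Nat.mul_le_mul (Nat.lt_succ_iff.mp ht21) (Nat.lt_succ_iff.mp ht21))) hodd h9 h27 hsq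
      have h7 : ∀ r : ℕ, r = 5 → r ∣ E → 7 ≤ q := by
        rintro r rfl h
        have := hqr 5 (by norm_num) h
        rcases Nat.eq_or_lt_of_le (show 6 ≤ q by omega) with h6 | h6
        · rw [← h6] at hq
          exact absurd hq (by
            rw [isPrimePow_nat_iff_bounded]
            decide)
        · exact h6
      simp only [List.mem_cons, List.not_mem_nil, or_false] at hEmem
      rcases hEmem with rfl | rfl | rfl | rfl | rfl | rfl | rfl | rfl | rfl | rfl | rfl | rfl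
      · refine le_trans (Nat.mul_le_mul_left 5 (Nat.mul_le_mul_left _ (hH9 rfl : H ≤ 1))) ?_
        refine le_trans ?_ (Nat.mul_le_mul_left 8 (Nat.pow_le_pow_left (show 4 ≤ q from le_trans (by norm_num) (hqr 3 (by norm_num) (by norm_num))) _))
        exact case_bound (by simp [caseTable]) ht ht21 hE h39
      · refine le_trans (Nat.mul_le_mul_left 5 (Nat.mul_le_mul_left _ (hH25 rfl : H ≤ 3))) ?_
        refine le_trans ?_ (Nat.mul_le_mul_left 8 (Nat.pow_le_pow_left (show 7 ≤ q from le_trans (by norm_num) (h7 5 rfl (by norm_num))) _))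
        exact case_bound (by simp [caseTable]) ht ht21 hE h39
      · refine le_trans (Nat.mul_le_mul_left 5 (Nat.mul_le_mul_left _ ((by omega : H ≤ 600) : H ≤ 600))) ?_
        refine le_trans ?_ (Nat.mul_le_mul_left 8 (Nat.pow_le_pow_left (show 8 ≤ q from le_trans (by norm_num) (hqr 7 (by norm_num) (by norm_num))) _))
        exact case_bound (by simp [caseTable]) ht ht21 hE h39
      · refine le_trans (Nat.mul_le_mul_left 5 (Nat.mul_le_mul_left _ (hH81 rfl : H ≤ 5))) ?_
        refine le_trans ?_ (Nat.mul_le_mul_left 8 (Nat.pow_le_pow_left (show 4 ≤ q from le_trans (by norm_num) (hqr 3 (by norm_num) (by norm_num))) _))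
        exact case_bound (by simp [caseTable]) ht ht21 hE h39
      · refine le_trans (Nat.mul_le_mul_left 5 (Nat.mul_le_mul_left _ ((by omega : H ≤ 3660) : H ≤ 3660))) ?_
        refine le_trans ?_ (Nat.mul_le_mul_left 8 (Nat.pow_le_pow_left (show 12 ≤ q from le_trans (by norm_num) (hqr 11 (by norm_num) (by norm_num))) _))
        exact case_bound (by simp [caseTable]) ht ht21 hE h39
      · refine le_trans (Nat.mul_le_mul_left 5 (Nat.mul_le_mul_left _ ((by omega : H ≤ 3906) : H ≤ 3906))) ?_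
        refine le_trans ?_ (Nat.mul_le_mul_left 8 (Nat.pow_le_pow_left (show 7 ≤ q from le_trans (by norm_num) (h7 5 rfl (by norm_num))) _))
        exact case_bound (by simp [caseTable]) ht ht21 hE h39
      · refine le_trans (Nat.mul_le_mul_left 5 (Nat.mul_le_mul_left _ ((by omega : H ≤ 7140) : H ≤ 7140))) ?_
        refine le_trans ?_ (Nat.mul_le_mul_left 8 (Nat.pow_le_pow_left (show 14 ≤ q from le_trans (by norm_num) (hqr 13 (by norm_num) (by norm_num))) _))
        exact case_bound (by simp [caseTable]) ht ht21 hE h39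
      · refine le_trans (Nat.mul_le_mul_left 5 (Nat.mul_le_mul_left _ ((by omega : H ≤ 12656) : H ≤ 12656))) ?_
        refine le_trans ?_ (Nat.mul_le_mul_left 8 (Nat.pow_le_pow_left (show 6 ≤ q from le_trans (by norm_num) (hqr 5 (by norm_num) (by norm_num))) _))
        exact case_bound (by simp [caseTable]) ht ht21 hE h39
      · refine le_trans (Nat.mul_le_mul_left 5 (Nat.mul_le_mul_left _ ((by omega : H ≤ 14762) : H ≤ 14762))) ?_
        refine le_trans ?_ (Nat.mul_le_mul_left 8 (Nat.pow_le_pow_left (show 4 ≤ q from le_trans (by norm_num) (hqr 3 (by norm_num) (by norm_num))) _))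
        exact case_bound (by simp [caseTable]) ht ht21 hE h39
      · refine le_trans (Nat.mul_le_mul_left 5 (Nat.mul_le_mul_left _ ((by omega : H ≤ 20880) : H ≤ 20880))) ?_
        refine le_trans ?_ (Nat.mul_le_mul_left 8 (Nat.pow_le_pow_left (show 18 ≤ q from le_trans (by norm_num) (hqr 17 (by norm_num) (by norm_num))) _))
        exact case_bound (by simp [caseTable]) ht ht21 hE h39
      · refine le_trans (Nat.mul_le_mul_left 5 (Nat.mul_le_mul_left _ ((by omega : H ≤ 29412) : H ≤ 29412))) ?_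
        refine le_trans ?_ (Nat.mul_le_mul_left 8 (Nat.pow_le_pow_left (show 8 ≤ q from le_trans (by norm_num) (hqr 7 (by norm_num) (by norm_num))) _))
        exact case_bound (by simp [caseTable]) ht ht21 hE h39
      · refine le_trans (Nat.mul_le_mul_left 5 (Nat.mul_le_mul_left _ ((by omega : H ≤ 32580) : H ≤ 32580))) ?_
        refine le_trans ?_ (Nat.mul_le_mul_left 8 (Nat.pow_le_pow_left (show 20 ≤ q from le_trans (by norm_num) (hqr 19 (by norm_num) (by norm_num))) _))
        exact case_bound (by simp [caseTable]) ht ht21 hE h39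
    · have h1 : E * H * 4 ≤ (t * t) * ((t * t) * (t * t)) :=
        calc E * H * 4 = E * (4 * H) := by ring
          _ ≤ E * (E * E) := Nat.mul_le_mul_left _ hH
          _ ≤ _ := by gcongr
      have key : ∀ n, 21 ≤ n → (5 * n ^ 6) ^ 3 ≤ 32 ^ 3 * 4 ^ (2 * n - 3) := by
        intro n hn
        induction n, hn using Nat.le_induction with
        | base => norm_num
        | succ n hn ih =>
          have h2 : ((n + 1) * 21) ^ 18 ≤ (22 * n) ^ 18 := Nat.pow_le_pow_left (by omega) 18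
          rw [mul_pow, mul_pow] at h2
          have h3 : (22 : ℕ) ^ 18 ≤ 16 * 21 ^ 18 := by norm_num
          have h4 : (n + 1) ^ 18 ≤ 16 * n ^ 18 := Nat.le_of_mul_le_mul_right
            (h2.trans ((Nat.mul_le_mul_right _ h3).trans (le_of_eq (by ring)))) (by positivity)
          rw [show 2 * (n + 1) - 3 = 2 * n - 3 + 2 by omega, pow_add, mul_pow, ← pow_mul]
          rw [mul_pow, ← pow_mul] at ih
          refine le_trans (Nat.mul_le_mul_left _ (show (n + 1) ^ (6 * 3) ≤ 16 * n ^ (6 * 3) from h4)) ?_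
          rw [← mul_assoc, mul_comm _ 16, mul_assoc, ← mul_assoc (32 ^ 3), mul_comm _ (4 ^ 2)]
          exact Nat.mul_le_mul (by norm_num) ih
      have h5 : 5 * t ^ 6 ≤ 32 * 4 ^ (2 * t - m - 1) := by
        refine le_of_pow_le_pow_left₀ (n := 3) (by norm_num) (Nat.zero_le _) ((key t ht21).trans ?_)
        rw [mul_pow, ← pow_mul]
        exact Nat.mul_le_mul_left _ (Nat.pow_le_pow_right (by norm_num) (by omega))
      have h6 : 4 ^ (2 * t - m - 1) ≤ q ^ (2 * t - m - 1) := Nat.pow_le_pow_left hq4 _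
      rw [show t ^ 6 = (t * t) * ((t * t) * (t * t)) by ring] at h5
      omega
  refine Nat.lt_of_mul_lt_mul_left (a := 4) ?_
  calc 4 * ((q - 1) * E * H * ((b - 1) * q ^ t + q ^ (2 * f)))
      = (q - 1) * E * H * (4 * ((b - 1) * q ^ t + q ^ (2 * f))) := by ring
    _ ≤ (q - 1) * E * H * (5 * q ^ m) := Nat.mul_le_mul_left _ hX
    _ = (q - 1) * (5 * (E * H)) * q ^ m := by ring
    _ ≤ (q - 1) * (8 * q ^ (2 * t - m - 1)) * q ^ m := by gcongr
    _ < q * (8 * q ^ (2 * t - m - 1)) * q ^ m := by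
        gcongr
        omega
    _ = 4 * (2 * q ^ (2 * t)) := by
        rw [show 2 * t = (2 * t - m - 1) + 1 + m by omega, pow_add, pow_succ]
        simp only [show 2 * t - m - 1 + 1 + m - m - 1 = 2 * t - m - 1 by omega]
        ring

end Cfsg.Agent.BaseTwo
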