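import Cfsg.Agent.Lib.Grp.BaseTwo.Defs
import Cfsg.Agent.Lib.Grp.Basic
import Cfsg.Agent.Lib.Grp.Solvable

/-!
# Odd order groups on small modules

A normal subgroup acting faithfully on a completely reducible module of prime power order, when
only one further prime can divide its order.
-/

set_option autoImplicit false
set_option linter.style.haveILetI false

namespace Cfsg.Agent.BaseTwo

variable {A : Type*} {V : Type*} [Group A] [AddCommGroup V] [DistribMulAction A V]

/-- The vectors fixed by every element of a subgroup. -/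
def fixSub (R : Subgroup A) : AddSubgroup V where
  carrier := {v | ∀ a ∈ R, a • v = v}
  zero_mem' := fun a _ => smul_zero a
  add_mem' := fun {v w} hv hw a ha => by rw [smul_add, hv a ha, hw a ha]
  neg_mem' := fun {v} hv a ha => by rw [smul_neg, hv a ha]

theorem mem_fixSub {R : Subgroup A} {v : V} : v ∈ fixSub R ↔ ∀ a ∈ R, a • v = v := Iff.rfl

theorem isInv_fixSub (R : Subgroup A) [R.Normal] : IsInv A (fixSub (V := V) R) := by
  intro a v hv r hr
  have h := hv (a⁻¹ * r * a) (by simpa using Subgroup.Normal.conj_mem (inferInstance : R.Normal) r hr a⁻¹)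
  rw [mul_smul, mul_smul, inv_smul_eq_iff] at h
  exact h

theorem card_addSubgroup_eq_pow {r a : ℕ} (hr : r.Prime) [Finite V] (hV : Nat.card V = r ^ a)
    (U : AddSubgroup V) : ∃ i ≤ a, Nat.card U = r ^ i :=
  (Nat.dvd_prime_pow hr).mp (hV ▸ AddSubgroup.card_addSubgroup_dvd_card U)

theorem fixedPoints_eq (R : Subgroup A) : MulAction.fixedPoints R V = (fixSub (V := V) R : Set V) := by
  ext v
  exact ⟨fun h a ha => h ⟨a, ha⟩, fun h a => h a.1 a.2⟩

/-- The fixed points of a `p`-subgroup are congruent to the module. -/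
theorem card_fixSub_modEq [Finite A] [Finite V] {p : ℕ} [Fact p.Prime] {R : Subgroup A} (hR : IsPGroup p R) :
    Nat.card V ≡ Nat.card (fixSub (V := V) R) [MOD p] := by
  have h := hR.card_modEq_card_fixedPoints V
  rwa [Nat.card_congr (Equiv.setCongr (fixedPoints_eq (V := V) R))] at h

/-- A normal `r`-subgroup acts trivially on a completely reducible module of `r`-power order. -/
theorem trivial_of_pGroup [Finite A] [Finite V] {r a : ℕ} [Fact r.Prime] (hV : Nat.card V = r ^ a)
    (hcr : IsCR A V) (R : Subgroup A) [R.Normal] (hR : IsPGroup r R) :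
    ∀ g ∈ R, ∀ v : V, g • v = v := by
  obtain ⟨W, hW, hinf, hsup⟩ := hcr _ (isInv_fixSub R)
  have hW0 : W = ⊥ := by
    by_contra hne
    letI := invAction W (fun (g : R) => hW g)
    obtain ⟨i, -, hi⟩ := card_addSubgroup_eq_pow (Fact.out : r.Prime) hV W
    have hdvd : r ∣ Nat.card W := by
      rw [hi]
      refine dvd_pow_self r fun h0 => hne ?_
      rw [h0, pow_zero] at hi
      exact AddSubgroup.eq_bot_of_card_eq W hi
    obtain ⟨w, hw, hw0⟩ := hR.exists_fixed_point_of_prime_dvd_card_of_fixed_point W hdvd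
      (a := 0) (fun g => smul_zero g)
    have : (w : V) ∈ fixSub R ⊓ W := ⟨fun g hg => congrArg Subtype.val (hw ⟨g, hg⟩), w.2⟩
    rw [hinf, AddSubgroup.mem_bot] at this
    exact hw0 (Subtype.ext this.symm)
  rw [hW0, sup_bot_eq] at hsup
  intro g hg v
  have : v ∈ fixSub R := hsup ▸ trivial
  exact this g hg

/-- The fixed space of an element of prime order. -/
theorem exists_fix_exponent [Finite A] [Finite V] {r a ℓ : ℕ} [Fact ℓ.Prime] (hr : r.Prime)
    (hV : Nat.card V = r ^ a) {g : A} (hg : orderOf g = ℓ) (hne : ∃ v : V, g • v ≠ v) :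
    ∃ i < a, Nat.card (fixSub (V := V) (Subgroup.zpowers g)) = r ^ i ∧ r ^ a ≡ r ^ i [MOD ℓ] := by
  obtain ⟨i, hi, hc⟩ := card_addSubgroup_eq_pow hr hV (fixSub (Subgroup.zpowers g))
  refine ⟨i, lt_of_le_of_ne hi fun h => ?_, hc, ?_⟩
  · obtain ⟨v, hv⟩ := hne
    have htop := AddSubgroup.eq_top_of_card_eq (fixSub (V := V) (Subgroup.zpowers g)) (by rw [hc, h, hV])
    exact hv ((htop ▸ (trivial : v ∈ (⊤ : AddSubgroup V)) : v ∈ fixSub (Subgroup.zpowers g)) g
      (Subgroup.mem_zpowers g))
  · rw [← hV, ← hc]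
    exact card_fixSub_modEq (IsPGroup.of_card (n := 1) (by rw [Nat.card_zpowers, hg, pow_one]))

/-- The order of a normal subgroup acting faithfully, when a single prime other than `r` occurs. -/
theorem small_bound [Finite A] [Finite V] [Group.IsSolvable A] {r a ℓ : ℕ} [Fact r.Prime] [Fact ℓ.Prime]
    (hV : Nat.card V = r ^ a) (hcr : IsCR A V) (H : Subgroup A) [H.Normal]
    (hfaith : ∀ g ∈ H, (∀ v : V, g • v = v) → g = 1)
    (hprimes : ∀ m : ℕ, m.Prime → m ∣ Nat.card H → m = r ∨ m = ℓ)
    (hfree : ∀ i, 0 < i → i < a → ¬ (r ^ a ≡ r ^ i [MOD ℓ]))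
    (hcent : ∀ i, 0 < i → i < a → ¬ r ^ i ≡ 1 [MOD ℓ])
    (hsq : ¬ ℓ ^ 2 ∣ r ^ a - 1) :
    Nat.card H ∣ ℓ * (ℓ - 1) := by
  classical
  have hr : r.Prime := Fact.out
  have hℓ : ℓ.Prime := Fact.out
  by_cases hH : H = ⊥
  · rw [hH, Subgroup.card_bot]; exact one_dvd _
  obtain ⟨M, hMn, hM0, hMH, hMmin⟩ := Grp.exists_minimal_normal_le (N := H) hH
  haveI := hMn
  obtain ⟨hMab, p, hp, hMp⟩ := Grp.minimal_normal_solvable (inferInstance) hM0 hMmin
  haveI := Fact.mk hp
  have hMpg : IsPGroup p M := fun x => ⟨1, by simpa using Subtype.ext (hMp x x.2)⟩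
  -- nontrivial elements of order `ℓ` in `H` fix only zero
  have hfpf : ∀ g ∈ H, orderOf g = ℓ → ∀ v : V, g • v = v → v = 0 := by
    intro g hg hgo v hv
    obtain ⟨i, hia, hc, hmod⟩ := exists_fix_exponent hr hV hgo (by
      by_contra hall
      push_neg at hall
      have := hfaith g hg hall
      rw [this, orderOf_one] at hgo
      exact hℓ.one_lt.ne' hgo.symm)
    rcases Nat.eq_zero_or_pos i with rfl | hi
    · rw [pow_zero, AddSubgroup.card_eq_one] at hc
      have : v ∈ fixSub (Subgroup.zpowers g) := fun x hx => by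
        have hfix : g ∈ MulAction.stabilizer A v := hv
        exact (Subgroup.zpowers_le.mpr hfix) hx
      rwa [hc, AddSubgroup.mem_bot] at this
    · exact absurd hmod (hfree i hi hia)
  -- an `ℓ`-subgroup of `H` has order dividing `ℓ`
  have hPsmall : ∀ P : Subgroup A, P ≤ H → IsPGroup ℓ P → Nat.card P ∣ ℓ := by
    intro P hPH hP
    have hfixP : ∀ g ∈ P, g ≠ 1 → ∀ v : V, g • v = v → v = 0 := by
      intro g hg hg1 v hv
      obtain ⟨k, hk⟩ := hP ⟨g, hg⟩
      have hk' : g ^ ℓ ^ k = 1 := congrArg Subtype.val hk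
      obtain ⟨j, -, hj⟩ := (Nat.dvd_prime_pow hℓ).mp (orderOf_dvd_of_pow_eq_one hk')
      have hj0 : j ≠ 0 := fun h => hg1 (orderOf_eq_one_iff.mp (by rw [hj, h, pow_zero]))
      refine hfpf (g ^ ℓ ^ (j - 1)) (H.pow_mem (hPH hg) _) ?_ v ?_
      · rw [orderOf_pow' g (pow_ne_zero _ hℓ.ne_zero), hj,
          Nat.gcd_eq_right (pow_dvd_pow ℓ (Nat.sub_le j 1)),
          Nat.pow_div (Nat.sub_le j 1) hℓ.pos, show j - (j - 1) = 1 by omega, pow_one]
      · exact (Subgroup.pow_mem (MulAction.stabilizer A v) hv _ : _)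
    obtain ⟨k, hk⟩ := hP.exists_card_eq
    rcases Nat.lt_or_ge k 2 with hk2 | hk2
    · rw [hk]; exact (pow_dvd_pow ℓ (Nat.le_of_lt_succ hk2)).trans (pow_one ℓ).dvd
    exfalso
    refine hsq ((pow_dvd_pow ℓ hk2).trans ?_)
    rw [← hk, ← hV]
    -- `P` is semiregular on the nonzero vectors
    have hzero : ∀ g : P, (g : A) • (0 : V) = 0 := fun g => smul_zero _
    let S : SubMulAction P V :=
      { carrier := {v | v ≠ 0}
        smul_mem' := fun g v hv => fun h => hv ((smul_eq_zero_iff_eq (g : A)).mp h) }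
    have hstab : ∀ s : S, MulAction.stabilizer P s = ⊥ := by
      intro s
      rw [eq_bot_iff]
      intro g hg
      by_contra hg1
      refine s.2 (hfixP g g.2 (fun h => hg1 (Subgroup.mem_bot.mpr (Subtype.ext h))) _ ?_)
      exact congrArg Subtype.val hg
    have e := Nat.card_congr (MulAction.selfEquivOrbitsQuotientProd hstab)
    rw [Nat.card_prod] at e
    have hS : Nat.card S = Nat.card V - 1 := by
      have : Nat.card S = ({0}ᶜ : Set V).ncard := rfl
      rw [this, Set.ncard_compl, Set.ncard_singleton]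
    rw [hS] at e
    exact Dvd.intro_left _ e.symm
  have hpℓ : p = ℓ := by
    obtain ⟨k, hk⟩ := hMpg.exists_card_eq
    have hk0 : k ≠ 0 := fun h => hM0 (Subgroup.card_eq_one.mp (by rw [hk, h, pow_zero]))
    refine (hprimes p hp ((dvd_pow_self p hk0).trans (hk ▸ Subgroup.card_dvd_of_le hMH))).resolve_left ?_
    rintro rfl
    exact hM0 (Subgroup.eq_bot_iff_forall M |>.mpr fun g hg =>
      hfaith g (hMH hg) (trivial_of_pGroup hV hcr M hMpg g hg))
  rw [hpℓ] at hMpg
  have hMcard : Nat.card M = ℓ := by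
    rcases (Nat.dvd_prime hℓ).mp (hPsmall M hMH hMpg) with h | h
    · exact absurd (Subgroup.card_eq_one.mp h) hM0
    · exact h
  haveI : IsCyclic M := isCyclic_of_prime_card hMcard
  let φ : H →* MulAut M := MulAut.conjNormal.comp H.subtype
  have hker : Nat.card φ.ker ∣ ℓ := by
    have hC : IsPGroup ℓ φ.ker := by
      refine IsPGroup.of_card (Nat.eq_prime_pow_of_unique_prime_dvd Nat.card_pos.ne' fun {m} hm hmd => ?_)
      refine (hprimes m hm (hmd.trans (Subgroup.card_subgroup_dvd_card φ.ker))).resolve_left ?_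
      rintro rfl
      obtain ⟨c, hc⟩ := exists_prime_orderOf_dvd_card' (G := φ.ker) m hmd
      set g : A := ((c : H) : A) with hgdef
      have hgo : orderOf g = m := by
        rw [hgdef, orderOf_submonoid, orderOf_submonoid, hc]
      have hgM : ∀ x ∈ M, g * x = x * g := by
        intro x hx
        have h := congrArg Subtype.val (MulEquiv.congr_fun (MonoidHom.mem_ker.mp c.2) ⟨x, hx⟩)
        exact mul_inv_eq_iff_eq_mul.mp h
      set F := fixSub (V := V) (Subgroup.zpowers g) with hF
      obtain ⟨i, hia, hc', hmod⟩ := exists_fix_exponent hr hV hgo (by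
        by_contra hall
        push_neg at hall
        have := hfaith g (c : H).2 hall
        rw [this, orderOf_one] at hgo
        exact hr.one_lt.ne' hgo.symm)
      have hi0 : 0 < i := by
        rcases Nat.eq_zero_or_pos i with rfl | h
        · exfalso
          rw [pow_zero] at hmod
          have h0 : m ^ a % m = 0 := Nat.mod_eq_zero_of_dvd (dvd_pow_self m (by omega))
          rw [Nat.ModEq, h0, Nat.mod_eq_of_lt hr.one_lt] at hmod
          exact one_ne_zero hmod.symm
        · exact h
      have hFinv : IsInv M F := by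
        rintro ⟨x, hx⟩ v hv y hy
        obtain ⟨k, rfl⟩ := Subgroup.mem_zpowers_iff.mp hy
        show g ^ k • x • v = x • v
        rw [← mul_smul, ((show Commute g x from hgM x hx).zpow_left k).eq, mul_smul, hv _ hy]
      letI := invAction F hFinv
      have hmodℓ := hMpg.card_modEq_card_fixedPoints F
      have hone : Nat.card (MulAction.fixedPoints M F) = 1 := by
        obtain ⟨x, hx⟩ := exists_prime_orderOf_dvd_card' (G := M) ℓ (dvd_of_eq hMcard.symm)
        have hsub : ∀ y : MulAction.fixedPoints M F, y.1 = 0 := fun y =>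
          Subtype.ext (hfpf x (hMH x.2) (by rw [orderOf_submonoid, hx]) _ (congrArg Subtype.val (y.2 x)))
        haveI : Subsingleton (MulAction.fixedPoints M F) := ⟨fun y z => Subtype.ext ((hsub y).trans (hsub z).symm)⟩
        haveI : Nonempty (MulAction.fixedPoints M F) := ⟨⟨0, fun x => smul_zero x⟩⟩
        exact Nat.card_eq_one_iff_unique.mpr ⟨inferInstance, inferInstance⟩
      rw [hone, hc'] at hmodℓ
      exact hcent i hi0 hia hmodℓ
    have hmap : Nat.card (φ.ker.map H.subtype) = Nat.card φ.ker :=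
      Subgroup.card_map_of_injective H.subtype_injective
    rw [← hmap]
    exact hPsmall _ (Subgroup.map_subtype_le _) (hC.map _)
  have hrange : Nat.card φ.range ∣ ℓ - 1 := by
    have h := Subgroup.card_subgroup_dvd_card φ.range
    rwa [IsCyclic.card_mulAut, hMcard, Nat.totient_prime hℓ] at h
  rw [← φ.ker.card_mul_index, Subgroup.index_ker]
  exact Nat.mul_dvd_mul hker hrange

end Cfsg.Agent.BaseTwo
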