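import Cfsg.Agent.Lib.Grp.BaseTwo.Defs
import Cfsg.Agent.Lib.Grp.BaseTwo.SmallGroups
import Cfsg.Agent.Lib.Grp.BaseTwo.Arith

/-!
# Groups of odd order have a subset with trivial stabiliser

Gluck's lemma for solvable permutation groups of odd order, given two-vector bases for smaller
linear groups.
-/

set_option autoImplicit false
set_option linter.style.haveILetI false

universe u

namespace Cfsg.Agent.BaseTwo

open scoped Pointwise

/-- A double count: if every point is fixed by some nonidentity element of an odd order group, the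
fixed sets have at least twice the total size. -/
theorem two_mul_card_le_sum {A X : Type*} [Group A] [Fintype A] [DecidableEq A] [Fintype X]
    (hodd : Odd (Nat.card A)) (R : A → X → Prop) [∀ a, DecidablePred (R a)]
    (hinv : ∀ a x, R a x → R a⁻¹ x) (hall : ∀ x, ∃ a, a ≠ 1 ∧ R a x) :
    2 * Fintype.card X ≤ ∑ a ∈ Finset.univ.filter (fun a : A => a ≠ 1), (Finset.univ.filter (R a)).card := by
  classical
  have e : ∀ a : A, (Finset.univ.filter (R a)).card = ∑ x : X, if R a x then 1 else 0 := fun a => by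
    rw [Finset.card_filter]
  simp only [e]
  rw [Finset.sum_comm, mul_comm, ← smul_eq_mul, ← Finset.card_univ, ← Finset.sum_const]
  refine Finset.sum_le_sum fun x _ => ?_
  obtain ⟨a, ha, hax⟩ := hall x
  have hne : a ≠ a⁻¹ := by
    intro h
    have h2 : a ^ 2 = 1 := by rw [pow_two]; nth_rewrite 2 [h]; exact mul_inv_cancel a
    have h3 := orderOf_dvd_of_pow_eq_one h2
    rcases (Nat.dvd_prime Nat.prime_two).mp h3 with h4 | h4
    · exact ha (orderOf_eq_one_iff.mp h4)
    · exact absurd (h4 ▸ hodd.of_dvd_nat (orderOf_dvd_natCard a)) (by decide)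
  calc 2 = ({a, a⁻¹} : Finset A).card := (Finset.card_pair hne).symm
    _ ≤ ((Finset.univ.filter (fun a : A => a ≠ 1)).filter (fun b => R b x)).card := by
        refine Finset.card_le_card fun b hb => ?_
        simp only [Finset.mem_insert, Finset.mem_singleton] at hb
        rcases hb with rfl | rfl <;> simp [ha, hax, hinv _ _ hax]
    _ = _ := by rw [Finset.card_filter]

/-- Thrice the number of orbits of an element of odd order. -/
theorem three_mul_orbits_le {G Ω : Type*} [Group G] [Finite G] [MulAction G Ω] [Fintype Ω]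
    (hodd : Odd (Nat.card G)) (g : G) :
    3 * Nat.card (MulAction.orbitRel.Quotient (Subgroup.zpowers g) Ω)
      ≤ Nat.card Ω + 2 * Nat.card {x : Ω // g • x = x} := by
  classical
  let Q := MulAction.orbitRel.Quotient (Subgroup.zpowers g) Ω
  haveI : Fintype Q := Fintype.ofFinite Q
  let sz : Q → ℕ := fun ω => Nat.card ω.orbit
  have hn : Nat.card Ω = ∑ ω : Q, sz ω := by
    rw [Nat.card_congr (MulAction.selfEquivSigmaOrbits' (Subgroup.zpowers g) Ω), Nat.card_sigma]
  have hodd' : ∀ ω : Q, Odd (sz ω) := by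
    intro ω
    induction ω using Quotient.inductionOn' with
    | h x =>
      show Odd (Nat.card (MulAction.orbitRel.Quotient.orbit (Quotient.mk'' x)))
      rw [MulAction.orbitRel.Quotient.orbit_mk, Nat.card_congr (MulAction.orbitEquivQuotientStabilizer _ x),
        ← Subgroup.index_eq_card]
      exact (hodd.of_dvd_nat (Subgroup.card_subgroup_dvd_card _)).of_dvd_nat (Subgroup.index_dvd_card _)
  have hsmall : (Finset.univ.filter fun ω : Q => sz ω = 1).card ≤ Nat.card {x : Ω // g • x = x} := by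
    rw [Nat.card_eq_fintype_card, ← Fintype.card_coe]
    refine Fintype.card_le_of_injective (fun ω => ⟨Quotient.out ω.1, ?_⟩) ?_
    · have h1 := (Finset.mem_filter.mp ω.2).2
      obtain ⟨hsub, -⟩ := Nat.card_eq_one_iff_unique.mp h1
      have hx : Quotient.out ω.1 ∈ ω.1.orbit := by
        rw [MulAction.orbitRel.Quotient.mem_orbit]
        exact Quotient.out_eq' ω.1
      have hgx : g • Quotient.out ω.1 ∈ ω.1.orbit := by
        rw [MulAction.orbitRel.Quotient.mem_orbit] at hx ⊢
        exact Eq.trans (Quotient.sound' ⟨⟨g, Subgroup.mem_zpowers g⟩, rfl⟩) hx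
      exact congrArg Subtype.val (hsub.elim ⟨_, hgx⟩ ⟨_, hx⟩)
    · intro a b hab
      exact Subtype.ext (Quotient.out_inj.mp (congrArg Subtype.val hab))
  show 3 * Nat.card Q ≤ _
  rw [hn, Nat.card_eq_fintype_card (α := Q)]
  calc 3 * Fintype.card Q = ∑ _ω : Q, 3 := by simp [mul_comm]
    _ ≤ ∑ ω : Q, (sz ω + 2 * if sz ω = 1 then 1 else 0) := by
        refine Finset.sum_le_sum fun ω _ => ?_
        obtain ⟨k, hk⟩ := hodd' ω
        split_ifs <;> omega
    _ ≤ _ := by
        rw [Finset.sum_add_distrib, ← Finset.mul_sum, Finset.sum_boole]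
        exact Nat.add_le_add_left (Nat.mul_le_mul_left _ (by simpa using hsmall)) _

/-- The invariant subsets of an element. -/
theorem card_invariant_sets_le {G Ω : Type*} [Group G] [Finite G] [MulAction G Ω] [Finite Ω] (g : G) :
    Nat.card {S : Set Ω // ∀ x, g • x ∈ S ↔ x ∈ S}
      ≤ 2 ^ Nat.card (MulAction.orbitRel.Quotient (Subgroup.zpowers g) Ω) := by
  classical
  haveI : Fintype (MulAction.orbitRel.Quotient (Subgroup.zpowers g) Ω) := Fintype.ofFinite _
  rw [show 2 ^ Nat.card (MulAction.orbitRel.Quotient (Subgroup.zpowers g) Ω)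
      = Nat.card (Set (MulAction.orbitRel.Quotient (Subgroup.zpowers g) Ω)) by simp]
  refine Nat.card_le_card_of_injective (fun S => Quotient.mk'' '' S.1) fun S T h => Subtype.ext ?_
  have key : ∀ S : {S : Set Ω // ∀ x, g • x ∈ S ↔ x ∈ S}, ∀ x,
      (Quotient.mk'' x : MulAction.orbitRel.Quotient (Subgroup.zpowers g) Ω) ∈ Quotient.mk'' '' S.1 → x ∈ S.1 := by
    rintro S x ⟨y, hy, hxy⟩
    obtain ⟨⟨z, hz⟩, rfl⟩ := Quotient.exact' hxy
    have hst : ∀ k : ℤ, ∀ v, g ^ k • v ∈ S.1 ↔ v ∈ S.1 := by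
      intro k
      induction k using Int.induction_on with
      | zero => simp
      | succ k ih =>
        intro v
        rw [zpow_add_one, mul_smul, ih, S.2]
      | pred k ih =>
        intro v
        rw [zpow_sub_one, mul_smul, ih, ← S.2, smul_inv_smul]
    obtain ⟨k, rfl⟩ := Subgroup.mem_zpowers_iff.mp hz
    exact (hst k x).mp hy
  simp only at h
  ext x
  exact ⟨fun hx => key T x (h ▸ ⟨x, hx, rfl⟩), fun hx => key S x (h ▸ ⟨x, hx, rfl⟩)⟩

/-- Conjugation action of a subgroup on a normal subgroup. -/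
@[reducible] def conjAdd {G : Type*} [Group G] (H N : Subgroup G) [N.Normal] [IsMulCommutative N] :
    DistribMulAction H (Additive N) where
  smul h x := Additive.ofMul (MulAut.conjNormal (h : G) x.toMul)
  one_smul x := by
    show Additive.ofMul (MulAut.conjNormal ((1 : H) : G) x.toMul) = x
    simp
  mul_smul a b x := by
    show Additive.ofMul (MulAut.conjNormal ((a * b : H) : G) x.toMul) = _
    simp [map_mul]
    rfl
  smul_zero h := by
    show Additive.ofMul (MulAut.conjNormal (h : G) 1) = 0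
    simp
  smul_add h x y := by
    show Additive.ofMul (MulAut.conjNormal (h : G) (x.toMul * y.toMul)) = _
    rw [map_mul]
    rfl

/-- The primitive case. -/
theorem gluck_primitive {G Ω : Type u} [Group G] [Finite G] [MulAction G Ω] [FaithfulSMul G Ω] [Finite Ω]
    [Nontrivial Ω] [Group.IsSolvable G] (hodd : Odd (Nat.card G)) (hprim : MulAction.IsPreprimitive G Ω)
    {n₀ : ℕ} (IH : ModHyp.{u} n₀) (hn₀ : Nat.card Ω ≤ n₀) :
    ∃ S : Set Ω, ∀ g : G, (∀ x, g • x ∈ S ↔ x ∈ S) → g = 1 := by
  classical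
  haveI := Fintype.ofFinite Ω
  haveI := Fintype.ofFinite G
  haveI := hprim.toIsPretransitive
  haveI : Nontrivial G := by
    by_contra h
    rw [not_nontrivial_iff_subsingleton] at h
    obtain ⟨x, y, hxy⟩ := exists_pair_ne Ω
    obtain ⟨g, hg⟩ := MulAction.exists_smul_eq G x y
    rw [Subsingleton.elim g 1, one_smul] at hg
    exact hxy hg
  obtain ⟨N, hNn, hN0, -, hNmin⟩ := Grp.exists_minimal_normal_le (G := G) (N := ⊤) (top_ne_bot)
  haveI := hNn
  obtain ⟨hNab, r, hr, hNr⟩ := Grp.minimal_normal_solvable (inferInstance) hN0 hNmin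
  haveI := hNab
  letI : CommGroup N := { (inferInstance : Group N) with mul_comm := mul_comm' }
  haveI := Fact.mk hr
  obtain ⟨a⟩ := (inferInstance : Nonempty Ω)
  haveI : MulAction.IsPretransitive N Ω := by
    refine MulAction.IsQuasiPreprimitive.isPretransitive_of_normal fun h => hN0 ?_
    rw [eq_bot_iff]
    intro g hg
    refine Subgroup.mem_bot.mpr (eq_of_smul_eq_smul (α := Ω) fun x => ?_)
    have hx : x ∈ MulAction.fixedPoints N Ω := h ▸ Set.mem_univ x
    rw [one_smul]
    exact hx ⟨g, hg⟩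
  have hreg : ∀ (m : N) (x : Ω), m • x = x → m = 1 := by
    intro m x hm
    refine Subtype.ext (eq_of_smul_eq_smul (α := Ω) fun y => ?_)
    obtain ⟨k, rfl⟩ := MulAction.exists_smul_eq N x y
    show (m : G) • k • x = (1 : G) • k • x
    rw [one_smul]
    calc (m : G) • k • x = (m * k) • x := (mul_smul m k x).symm
      _ = (k * m) • x := by rw [mul_comm']
      _ = k • x := by rw [mul_smul, hm]
  have hbij : ∀ x : Ω, Function.Bijective (fun m : N => m • x) := fun x =>
    ⟨fun m k h => by
      have : (k⁻¹ * m) • x = x := by rw [mul_smul, inv_smul_eq_iff]; exact h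
      exact (inv_mul_eq_one.mp (hreg _ _ this)).symm, fun y => MulAction.exists_smul_eq N x y⟩
  set n := Nat.card Ω with hn
  have hnN : Nat.card N = n := Nat.card_congr (Equiv.ofBijective _ (hbij a))
  obtain ⟨k, hk⟩ : ∃ k, n = r ^ k := by
    have hpg : IsPGroup r N := fun x => ⟨1, by simpa using Subtype.ext (hNr x x.2)⟩
    obtain ⟨k, hk⟩ := hpg.exists_card_eq
    exact ⟨k, hnN ▸ hk⟩
  have hn1 : 1 < n := Finite.one_lt_card
  have hk0 : k ≠ 0 := fun h => by rw [hk, h, pow_zero] at hn1; omega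
  have hr3 : 3 ≤ r := by
    rcases hr.eq_two_or_odd' with rfl | h
    · exfalso
      have : 2 ∣ Nat.card G := (dvd_pow_self 2 hk0).trans (hk ▸ hnN ▸ Subgroup.card_subgroup_dvd_card N)
      exact (Nat.not_even_iff_odd.mpr hodd) (even_iff_two_dvd.mpr this)
    · obtain ⟨j, hj⟩ := h; have := hr.two_le; omega
  set H := MulAction.stabilizer G a with hHdef
  letI := conjAdd H N
  have hGH : Nat.card G = n * Nat.card H := by
    rw [← H.card_mul_index, hHdef, MulAction.index_stabilizer_of_transitive, mul_comm]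
  have hoddH : Odd (Nat.card H) := hodd.of_dvd_nat (Subgroup.card_subgroup_dvd_card H)
  have hirr : IsIrr H (Additive N) := by
    intro X hX
    let X' : Subgroup G := X.toSubgroup'.map N.subtype
    have hXn : X'.Normal := by
      refine ⟨fun y hy g => ?_⟩
      obtain ⟨x, hx, rfl⟩ := hy
      obtain ⟨m, hm⟩ := MulAction.exists_smul_eq N a (g • a)
      have hh : (m : G)⁻¹ * g ∈ H := by
        rw [hHdef, MulAction.mem_stabilizer_iff, mul_smul, inv_smul_eq_iff]
        exact hm.symm
      refine ⟨MulAut.conjNormal ((m : G)⁻¹ * g) x, hX ⟨_, hh⟩ (Additive.ofMul x) hx, ?_⟩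
      set h := (m : G)⁻¹ * g with hhdef
      have hgm : g = (m : G) * h := by rw [hhdef, mul_inv_cancel_left]
      have hyN : h * (x : G) * h⁻¹ ∈ N := hNn.conj_mem _ x.2 h
      have hc : (m : G) * (h * (x : G) * h⁻¹) = (h * (x : G) * h⁻¹) * (m : G) :=
        congrArg Subtype.val (mul_comm' m ⟨_, hyN⟩)
      show ((MulAut.conjNormal h x : N) : G) = g * (x : G) * g⁻¹
      rw [MulAut.conjNormal_apply, hgm]
      calc h * (x : G) * h⁻¹ = (h * (x : G) * h⁻¹) * (m : G) * (m : G)⁻¹ := by group
        _ = _ := by rw [← hc]; group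
    rcases hNmin X' hXn (Subgroup.map_subtype_le _) with h | h
    · left
      rw [eq_bot_iff]
      intro x hx
      have : ((x.toMul : N) : G) ∈ X' := ⟨x.toMul, hx, rfl⟩
      rw [h, Subgroup.mem_bot] at this
      exact AddSubgroup.mem_bot.mpr (Additive.toMul.injective (Subtype.ext this))
    · right
      rw [eq_top_iff]
      intro x _
      have : ((x.toMul : N) : G) ∈ X' := by rw [h]; exact (x.toMul : N).2
      obtain ⟨y, hy, hyx⟩ := this
      have e : Additive.ofMul y = x := congrArg Additive.ofMul (Subtype.ext hyx : y = x.toMul)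
      exact e ▸ hy
  have hfaith : ∀ h ∈ (⊤ : Subgroup H), (∀ x : Additive N, h • x = x) → h = 1 := by
    intro h _ hx
    refine Subtype.ext (eq_of_smul_eq_smul (α := Ω) fun y => ?_)
    obtain ⟨m, rfl⟩ := MulAction.exists_smul_eq N a y
    have e : (h : G) * (m : G) * (h : G)⁻¹ = m := congrArg (fun z : Additive N => ((z.toMul : N) : G)) (hx (Additive.ofMul m))
    rw [Subgroup.coe_one, one_smul]
    show (h : G) • (m : G) • a = (m : G) • a
    rw [← mul_smul, mul_inv_eq_iff_eq_mul.mp e, mul_smul]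
    exact congrArg _ h.2
  have hcr := isCR_of_isIrr hirr
  have hcardN : Nat.card (Additive N) = r ^ k := hnN.trans hk
  have hnodd : Odd n := hnN ▸ hodd.of_dvd_nat (Subgroup.card_subgroup_dvd_card N)
  haveI : Group.IsSolvable H := inferInstance
  haveI : Nontrivial (Additive N) := Finite.one_lt_card_iff_nontrivial.mp (by rw [hcardN, ← hk]; exact hn1)
  have hH4 : 4 * Nat.card H ≤ n * n := by
    have hpair := IH H (Additive N) inferInstance hoddH hcr (by rw [hcardN, ← hk]; exact hn₀)
    have := four_mul_card_le hoddH (by rw [hcardN, ← hk]; exact hnodd) hpair ⊤ hfaith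
    rwa [Subgroup.card_top, hcardN, ← hk] at this
  -- the size condition
  have hsize : n * Nat.card H * 2 ^ ((n + 2 * (n / r)) / 3) ≤ 2 ^ (n + 1) := by
    rcases Nat.lt_or_ge k 2 with hk2 | hk2
    · obtain rfl : k = 1 := by omega
      rw [pow_one] at hk
      haveI : IsCyclic N := isCyclic_of_prime_card (hnN.trans hk)
      let φ : H →* MulAut N := MulAut.conjNormal.comp H.subtype
      have hφ : Function.Injective φ := (injective_iff_map_eq_one φ).mpr fun h hh =>
        hfaith h trivial fun x => congrArg Additive.ofMul (MulEquiv.congr_fun hh x.toMul)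
      have hd : Nat.card H ∣ r - 1 := by
        have := Subgroup.card_dvd_of_injective φ hφ
        rwa [IsCyclic.card_mulAut, hnN, hk, Nat.totient_prime hr] at this
      have h2 : 2 * Nat.card H ≤ r - 1 := by
        refine Nat.le_of_dvd (by omega) ((Nat.coprime_two_left.mpr hoddH).mul_dvd_of_dvd_of_dvd ?_ hd)
        exact (even_iff_two_dvd.mp ((hk ▸ hnodd).tsub_odd odd_one))
      have hb := perm_bound_prime (n := n) (by omega)
      rw [show n / r = 1 by rw [hk, Nat.div_self hr.pos], mul_one]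
      have h3 : n * (2 * Nat.card H) * 2 ^ ((n + 2) / 3) ≤ 2 ^ (n + 2) :=
        le_trans (Nat.mul_le_mul_right _ (Nat.mul_le_mul_left _ (hk ▸ h2 : 2 * Nat.card H ≤ n - 1))) hb
      rw [pow_succ] at h3
      nlinarith
    rcases Nat.lt_or_ge n 49 with hsmall | hbig
    · have hr5 : r ≤ 6 := by
        by_contra hc
        have : 7 ^ 2 ≤ r ^ k := le_trans (Nat.pow_le_pow_left (show 7 ≤ r by omega) 2) (Nat.pow_le_pow_right hr.pos hk2)
        omega
      have hk4 : k < 4 := by
        by_contra hc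
        have : 3 ^ 4 ≤ r ^ k := le_trans (Nat.pow_le_pow_left hr3 4) (Nat.pow_le_pow_right hr.pos (by omega))
        omega
      have hprimes' : ∀ m : ℕ, m.Prime → m ∣ Nat.card (⊤ : Subgroup H) →
          m = r ∨ (m % 2 = 1 ∧ ∃ i < k, r ^ k ≡ r ^ i [MOD m]) := by
        intro m hm hmd
        rw [Subgroup.card_top] at hmd
        haveI := Fact.mk hm
        refine Or.inr ⟨Nat.odd_iff.mp (hoddH.of_dvd_nat hmd), ?_⟩
        obtain ⟨g, hg⟩ := exists_prime_orderOf_dvd_card' (G := H) m hmd
        obtain ⟨i, hi, -, hmod⟩ := exists_fix_exponent (V := Additive N) hr hcardN hg (by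
          by_contra hall
          push Not at hall
          rw [hfaith g trivial hall, orderOf_one] at hg
          exact hm.one_lt.ne' hg.symm)
        exact ⟨i, hi, hmod⟩
      have hmdvd : ∀ m i : ℕ, i < k → r ^ k ≡ r ^ i [MOD m] → m ∣ r ^ k - r ^ i := fun m i hi h =>
        (Nat.modEq_iff_dvd' (Nat.pow_le_pow_right hr.pos hi.le)).mp h.symm
      interval_cases r <;> interval_cases k <;> norm_num at hk hsmall
      case «3».«2» =>
        have h1 : Nat.card H = 1 := by
          have hpg : IsPGroup 3 (⊤ : Subgroup H) := IsPGroup.of_card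
            (Nat.eq_prime_pow_of_unique_prime_dvd Nat.card_pos.ne' fun {m} hm hmd => by
              rcases hprimes' m hm hmd with h | ⟨hodd', i, hi, h⟩
              · exact h
              · have := hmdvd m i hi h
                interval_cases i
                · exact absurd ((Nat.prime_dvd_prime_iff_eq hm Nat.prime_two).mp (hm.dvd_of_dvd_pow (n := 3) this)) (by rintro rfl; simp at hodd')
                · rcases hm.dvd_mul.mp (show m ∣ 2 * 3 from this) with h | h
                  · exact absurd ((Nat.prime_dvd_prime_iff_eq hm Nat.prime_two).mp h) (by rintro rfl; simp at hodd')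
                  · exact (Nat.prime_dvd_prime_iff_eq hm Nat.prime_three).mp h)
          rw [← Subgroup.card_top, Subgroup.card_eq_one, Subgroup.eq_bot_iff_forall]
          exact fun g hg => hfaith g hg (trivial_of_pGroup hcardN hcr ⊤ hpg g hg)
        rw [h1, hk]
        norm_num
      case «3».«3» =>
        haveI : Fact (Nat.Prime 13) := ⟨by norm_num⟩
        have hd := small_bound (ℓ := 13) hcardN hcr (⊤ : Subgroup H) hfaith (fun m hm hmd => by
            rcases hprimes' m hm hmd with h | ⟨hodd', i, hi, h⟩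
            · exact Or.inl h
            · have := hmdvd m i hi h
              have hm2 : m ≠ 2 := by rintro rfl; simp at hodd'
              have h78 : m ∣ (2 * 3 * 13) ^ 3 := this.trans (by interval_cases i <;> norm_num)
              rcases hm.dvd_mul.mp (hm.dvd_of_dvd_pow h78) with h | h
              · rcases hm.dvd_mul.mp h with h | h
                · exact absurd ((Nat.prime_dvd_prime_iff_eq hm Nat.prime_two).mp h) hm2
                · exact Or.inl ((Nat.prime_dvd_prime_iff_eq hm Nat.prime_three).mp h)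
              · exact Or.inr ((Nat.prime_dvd_prime_iff_eq hm (by norm_num)).mp h))
          (fun i h1 h2 => by interval_cases i <;> decide) (fun i h1 h2 => by interval_cases i <;> decide)
          (by norm_num)
        rw [Subgroup.card_top] at hd
        have h39 : Nat.card H ≤ 39 := Nat.le_of_dvd (by norm_num)
          (((Nat.coprime_two_right.mpr hoddH).pow_right 2).dvd_of_dvd_mul_right (show Nat.card H ∣ 39 * 2 ^ 2 from hd))
        rw [show n = 27 from hk]
        exact le_trans (Nat.mul_le_mul_right _ (Nat.mul_le_mul_left _ h39)) (by norm_num)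
      case «5».«2» =>
        rw [hk] at hH4 ⊢
        norm_num at hH4 ⊢
        omega
      all_goals first | omega | (exact absurd hr (by norm_num)) | skip
    · have hb := perm_bound_large hbig
      have hc : (n + 2 * (n / r)) / 3 ≤ 5 * n / 9 := by
        have : n / r ≤ n / 3 := Nat.div_le_div_left hr3 (by norm_num)
        omega
      have : 4 * (n * Nat.card H * 2 ^ ((n + 2 * (n / r)) / 3)) ≤ 2 ^ (n + 3) :=
        calc 4 * (n * Nat.card H * 2 ^ ((n + 2 * (n / r)) / 3))
            = n * (4 * Nat.card H) * 2 ^ ((n + 2 * (n / r)) / 3) := by ring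
          _ ≤ n * (n * n) * 2 ^ (5 * n / 9) :=
              Nat.mul_le_mul (Nat.mul_le_mul_left _ hH4) (Nat.pow_le_pow_right (by norm_num) hc)
          _ = n ^ 3 * 2 ^ (5 * n / 9) := by ring
          _ ≤ _ := hb
      rw [show n + 3 = (n + 1) + 2 by ring, pow_add] at this
      omega
  -- every nonidentity element fixes few subsets
  have hfix : ∀ g : G, g ≠ 1 → Nat.card {S : Set Ω // ∀ x, g • x ∈ S ↔ x ∈ S} ≤ 2 ^ ((n + 2 * (n / r)) / 3) := by
    intro g hg
    refine (card_invariant_sets_le g).trans (Nat.pow_le_pow_right (by norm_num) ?_)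
    have h3 := three_mul_orbits_le (Ω := Ω) hodd g
    have hf : Nat.card {x : Ω // g • x = x} ≤ n / r := by
      rcases isEmpty_or_nonempty {x : Ω // g • x = x} with h | ⟨⟨b, hb⟩⟩
      · simp
      let e := Equiv.ofBijective _ (hbij b)
      have hiff : ∀ m : N, g • e m = e m ↔ MulAut.conjNormal g m = m := by
        intro m
        have : g • e m = e (MulAut.conjNormal g m) := by
          show g • (m : G) • b = ((MulAut.conjNormal g m : N) : G) • b
          rw [MulAut.conjNormal_apply, mul_smul, mul_smul, ← hb, smul_smul g⁻¹ g, inv_mul_cancel, one_smul, hb]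
        rw [this]
        exact e.injective.eq_iff
      let C : Subgroup N := (MulAut.conjNormal g : MulAut N).toMonoidHom.eqLocus (MonoidHom.id N)
      have hcard : Nat.card {x : Ω // g • x = x} = Nat.card C :=
        (Nat.card_congr (e.subtypeEquiv (q := fun x => g • x = x) (p := fun m => m ∈ C) fun m => (hiff m).symm)).symm
      obtain ⟨i, hi, hCi⟩ := (Nat.dvd_prime_pow hr).mp (hk ▸ hnN ▸ Subgroup.card_subgroup_dvd_card C)
      have hlt : i < k := by
        refine lt_of_le_of_ne hi fun h => hg ?_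
        have htop : C = ⊤ := Subgroup.eq_top_of_card_eq C (by rw [hCi, h, hnN, hk])
        refine eq_of_smul_eq_smul (α := Ω) fun x => ?_
        obtain ⟨m, rfl⟩ := e.surjective x
        rw [one_smul]
        exact (hiff m).mpr (show m ∈ C from htop ▸ trivial)
      rw [hcard, hCi, hk, Nat.le_div_iff_mul_le hr.pos, ← pow_succ]
      exact Nat.pow_le_pow_right hr.pos hlt
    omega
  by_contra hall
  push Not at hall
  have hcount := two_mul_card_le_sum (X := Set Ω) hodd (fun g S => ∀ x, g • x ∈ S ↔ x ∈ S)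
    (fun g S h x => by rw [← h, smul_inv_smul]) (fun S => by
      obtain ⟨g, hg, hg1⟩ := hall S
      exact ⟨g, hg1, hg⟩)
  have hle : ∀ g ∈ Finset.univ.filter (fun g : G => g ≠ 1),
      (Finset.univ.filter (fun S : Set Ω => ∀ x, g • x ∈ S ↔ x ∈ S)).card ≤ 2 ^ ((n + 2 * (n / r)) / 3) := by
    intro g hg
    refine le_trans (le_of_eq ?_) (hfix g (Finset.mem_filter.mp hg).2)
    rw [Nat.card_eq_fintype_card, Fintype.card_subtype]
  have h2 := hcount.trans (Finset.sum_le_sum hle)
  rw [Finset.sum_const, smul_eq_mul, Fintype.card_set, ← Nat.card_eq_fintype_card, ← hn,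
    Finset.filter_ne', Finset.card_erase_of_mem (Finset.mem_univ _), Finset.card_univ,
    ← Nat.card_eq_fintype_card, hGH] at h2
  have hpos : 0 < n * Nat.card H := Nat.mul_pos (by omega) Nat.card_pos
  have : (n * Nat.card H - 1) * 2 ^ ((n + 2 * (n / r)) / 3) < n * Nat.card H * 2 ^ ((n + 2 * (n / r)) / 3) :=
    Nat.mul_lt_mul_of_pos_right (by omega) (by positivity)
  rw [pow_succ] at hsize
  omega

/-- A solvable group of odd order has a subset whose setwise stabiliser acts trivially. -/
theorem gluck {n₀ : ℕ} (IH : ModHyp.{u} n₀) : ∀ m : ℕ, m ≤ n₀ → ∀ (G Ω : Type u) [Group G] [Finite G]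
    [MulAction G Ω] [Finite Ω], Group.IsSolvable G → Odd (Nat.card G) → Nat.card Ω ≤ m →
    ∃ S : Set Ω, ∀ g : G, (∀ x, g • x ∈ S ↔ x ∈ S) → ∀ x : Ω, g • x = x := by
  intro m
  induction m using Nat.strong_induction_on with
  | _ m ih =>
  intro hm G Ω _ _ _ _ hsol hodd hcard
  haveI := hsol
  classical
  by_cases hsub : Subsingleton Ω
  · exact ⟨∅, fun g _ x => Subsingleton.elim _ _⟩
  rw [not_subsingleton_iff_nontrivial] at hsub
  by_cases htr : MulAction.IsPretransitive G Ω
  swap
  · obtain ⟨a⟩ := (inferInstance : Nonempty Ω)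
    set Δ := MulAction.orbit G a
    let P : SubMulAction G Ω := ⟨Δ, fun g x hx => MulAction.mem_orbit_of_mem_orbit g hx⟩
    let P' : SubMulAction G Ω := ⟨Δᶜ, fun g x hx h => hx (by simpa using MulAction.mem_orbit_of_mem_orbit g⁻¹ h)⟩
    have hne : Δ ≠ Set.univ := fun h => htr ⟨fun x y => by
      obtain ⟨g, rfl⟩ : x ∈ Δ := h ▸ Set.mem_univ x
      obtain ⟨g', rfl⟩ : y ∈ Δ := h ▸ Set.mem_univ y
      exact ⟨g' * g⁻¹, by simp [mul_smul]⟩⟩
    have h1 : Δ.ncard < Nat.card Ω := by
      rw [← Set.ncard_univ]; exact Set.ncard_lt_ncard (Set.ssubset_univ_iff.mpr hne)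
    have h2 : Δᶜ.ncard < Nat.card Ω := by
      rw [← Set.ncard_univ]
      exact Set.ncard_lt_ncard (Set.ssubset_univ_iff.mpr (fun h => by
        rw [Set.compl_univ_iff] at h
        exact (Set.eq_empty_iff_forall_notMem.mp h) a (MulAction.mem_orbit_self a)))
    obtain ⟨S, hS⟩ := ih _ (lt_of_lt_of_le h1 hcard) (by omega) G P hsol hodd le_rfl
    obtain ⟨T, hT⟩ := ih _ (lt_of_lt_of_le h2 hcard) (by omega) G P' hsol hodd le_rfl
    refine ⟨(Subtype.val '' S) ∪ (Subtype.val '' T), fun g hg x => ?_⟩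
    have memS : ∀ y : P, (y : Ω) ∈ (Subtype.val '' S) ∪ (Subtype.val '' T) ↔ y ∈ S := by
      refine fun y => ⟨?_, fun h => Or.inl ⟨y, h, rfl⟩⟩
      rintro (⟨z, hz, hzy⟩ | ⟨z, -, hzy⟩)
      · exact (Subtype.ext hzy : z = y) ▸ hz
      · exact absurd (hzy ▸ y.2 : (z : Ω) ∈ Δ) z.2
    have memT : ∀ y : P', (y : Ω) ∈ (Subtype.val '' S) ∪ (Subtype.val '' T) ↔ y ∈ T := by
      refine fun y => ⟨?_, fun h => Or.inr ⟨y, h, rfl⟩⟩
      rintro (⟨z, -, hzy⟩ | ⟨z, hz, hzy⟩)
      · exact absurd (hzy ▸ z.2 : (y : Ω) ∈ Δ) y.2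
      · exact (Subtype.ext hzy : z = y) ▸ hz
    by_cases hx : x ∈ Δ
    · exact congrArg Subtype.val (hS g (fun y => by rw [← memS, ← memS]; exact hg y) ⟨x, hx⟩)
    · exact congrArg Subtype.val (hT g (fun y => by rw [← memT, ← memT]; exact hg y) ⟨x, hx⟩)
  haveI := htr
  by_cases hprim : MulAction.IsPreprimitive G Ω
  · let φ := MulAction.toPermHom G Ω
    haveI : MulAction.IsPretransitive φ.range Ω := ⟨fun x y => by
      obtain ⟨g, hg⟩ := MulAction.exists_smul_eq G x y
      exact ⟨⟨φ g, g, rfl⟩, hg⟩⟩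
    have hprim' : MulAction.IsPreprimitive φ.range Ω := ⟨fun {B} hB => hprim.isTrivialBlock_of_isBlock (by
      rw [MulAction.isBlock_iff_smul_eq_or_disjoint] at hB ⊢
      exact fun g => hB ⟨φ g, g, rfl⟩)⟩
    haveI : Group.IsSolvable φ.range := Group.isSolvable_of_surjective φ.rangeRestrict_surjective
    have hodd' : Odd (Nat.card φ.range) := hodd.of_dvd_nat (Subgroup.card_range_dvd φ)
    obtain ⟨S, hS⟩ := gluck_primitive (G := φ.range) hodd' hprim' IH (hcard.trans hm)
    exact ⟨S, fun g hg x => congrArg (fun σ : φ.range => (σ : Equiv.Perm Ω) x) (hS ⟨φ g, g, rfl⟩ hg)⟩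
  -- imprimitive
  obtain ⟨B, hB, hBtriv⟩ : ∃ B : Set Ω, MulAction.IsBlock G B ∧ ¬ MulAction.IsTrivialBlock B := by
    by_contra h
    push Not at h
    exact hprim { isTrivialBlock_of_isBlock := fun {B} hB => h B hB }
  rw [MulAction.IsTrivialBlock, not_or, Set.not_subsingleton_iff] at hBtriv
  obtain ⟨hBns, hBu⟩ := hBtriv
  obtain ⟨b₀, hb₀⟩ := hBns.nonempty
  let Ω' := {C : Set Ω // C ∈ Set.range (fun g : G => g • B)}
  letI : MulAction G Ω' :=
    { smul := fun g C => ⟨g • C.1, by obtain ⟨k, hk⟩ := C.2; exact ⟨g * k, by rw [← hk]; exact mul_smul g k B⟩⟩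
      one_smul := fun C => Subtype.ext (one_smul G C.1)
      mul_smul := fun g k C => Subtype.ext (mul_smul g k C.1) }
  have ht : ∀ C : Ω', ∃ g : G, g • B = C.1 := fun C => C.2
  choose t ht using ht
  have hinj : ∀ (C D : Ω') (b c : Ω), b ∈ B → c ∈ B → t C • b = t D • c → C = D ∧ b = c := by
    intro C D b c hb hc he
    have : C = D := by
      refine Subtype.ext ?_
      rw [← ht C, ← ht D]
      exact hB.smul_eq_smul_of_nonempty ⟨t C • b, Set.smul_mem_smul_set hb, he ▸ Set.smul_mem_smul_set hc⟩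
    subst this; exact ⟨rfl, MulAction.injective (t C) he⟩
  have hB2 : 2 ≤ B.ncard := Set.one_lt_ncard_iff_nontrivial.mpr hBns
  have hcardΩ' : Nat.card Ω' * B.ncard ≤ Nat.card Ω := by
    rw [← Nat.card_coe_set_eq, ← Nat.card_prod]
    exact Nat.card_le_card_of_injective (fun p => t p.1 • (p.2 : Ω)) fun p q h => by
      obtain ⟨h1, h2⟩ := hinj _ _ _ _ p.2.2 q.2.2 h
      exact Prod.ext h1 (Subtype.ext h2)
  have hΩ'pos : 0 < Nat.card Ω' := by
    haveI : Nonempty Ω' := ⟨⟨B, 1, one_smul G B⟩⟩
    exact Nat.card_pos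
  have hΩ'lt : Nat.card Ω' < Nat.card Ω := by
    have := Nat.mul_le_mul_left (Nat.card Ω') hB2
    omega
  have hBlt : B.ncard < Nat.card Ω := by
    rw [← Set.ncard_univ]; exact Set.ncard_lt_ncard (Set.ssubset_univ_iff.mpr hBu)
  let St := MulAction.stabilizer G B
  let PB : SubMulAction St Ω := ⟨B, fun h x hx => by
    have := Set.smul_mem_smul_set (a := (h : G)) hx
    rwa [h.2] at this⟩
  haveI : Group.IsSolvable St := inferInstance
  have hoddSt : Odd (Nat.card St) := hodd.of_dvd_nat (Subgroup.card_subgroup_dvd_card St)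
  obtain ⟨T, hT⟩ := ih _ (lt_of_lt_of_le hBlt hcard) (by omega) St PB inferInstance hoddSt le_rfl
  obtain ⟨S', hS'⟩ := ih _ (lt_of_lt_of_le hΩ'lt hcard) (by omega) G Ω' hsol hodd le_rfl
  let S : Set Ω := {x | ∃ (C : Ω') (b : PB), x = t C • (b : Ω) ∧ (C ∈ S' ↔ b ∈ T)}
  have hmemS : ∀ (C : Ω') (b : PB), t C • (b : Ω) ∈ S ↔ (C ∈ S' ↔ b ∈ T) := by
    refine fun C b => ⟨?_, fun h => ⟨C, b, rfl, h⟩⟩
    rintro ⟨D, c, he, h⟩
    obtain ⟨rfl, he'⟩ := hinj C D _ _ b.2 c.2 he
    rwa [Subtype.ext he'] 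
  refine ⟨S, fun g hg x => ?_⟩
  have hmem : ∀ C : Ω', (t (g • C))⁻¹ * g * t C ∈ St := fun C => by
    rw [MulAction.mem_stabilizer_iff, mul_smul, mul_smul, ht, inv_smul_eq_iff, ht]
    rfl
  have hmove : ∀ (C : Ω') (b : PB), g • t C • (b : Ω) = t (g • C) • (((⟨_, hmem C⟩ : St) • b : PB) : Ω) := by
    intro C b
    show _ = t (g • C) • ((t (g • C))⁻¹ * g * t C) • (b : Ω)
    rw [mul_smul, mul_smul, smul_inv_smul]
  have hrel : ∀ (C : Ω') (b : PB), ((g • C ∈ S') ↔ (⟨_, hmem C⟩ : St) • b ∈ T) ↔ (C ∈ S' ↔ b ∈ T) := by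
    intro C b
    rw [← hmemS, ← hmemS, ← hmove]
    exact hg _
  have hS'g : ∀ C, g • C ∈ S' ↔ C ∈ S' := by
    intro C
    by_contra hne
    set h : St := ⟨_, hmem C⟩
    have hflip : ∀ b : PB, h • b ∈ T ↔ ¬ b ∈ T := fun b => by
      have := hrel C b; tauto
    have hfix := hT (h ^ 2) (fun b => by rw [pow_two, mul_smul, hflip, hflip, not_not])
    have hb := smul_eq_of_sq hoddSt (show h • h • (⟨b₀, hb₀⟩ : PB) = ⟨b₀, hb₀⟩ by rw [← mul_smul, ← pow_two]; exact hfix _)
    have := hflip ⟨b₀, hb₀⟩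
    rw [hb] at this
    exact iff_not_self this
  have hfixC := hS' g hS'g
  obtain ⟨k, hk⟩ := MulAction.exists_smul_eq G b₀ x
  set C : Ω' := ⟨k • B, k, rfl⟩
  obtain ⟨b, hb, hbx⟩ : x ∈ t C • B := by rw [ht C, ← hk]; exact Set.smul_mem_smul_set hb₀
  subst hbx
  have hb' := hT ⟨_, hmem C⟩ (fun c => by have := hrel C c; have := hS'g C; tauto) ⟨b, hb⟩
  show g • t C • b = t C • b
  rw [hmove C ⟨b, hb⟩, hb', hfixC C]

end Cfsg.Agent.BaseTwo
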