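import Mathlib

/-!
# Two vectors with trivial common stabiliser: basic reductions

An action of a group `A` on an additive group `V` has a *pair* when two vectors have common
stabiliser equal to the kernel of the action. Everything is stated without faithfulness.
-/

set_option autoImplicit false
set_option linter.style.haveILetI false

universe u

namespace Cfsg.Agent.BaseTwo

variable {A : Type*} {V : Type*} [Group A] [AddCommGroup V] [DistribMulAction A V]

variable (A V) in
/-- Two vectors whose common stabiliser is the kernel of the action. -/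
def HasPair : Prop := ∃ v w : V, ∀ a : A, a • v = v → a • w = w → ∀ x : V, a • x = x

variable (A) in
/-- An invariant additive subgroup. -/
def IsInv (U : AddSubgroup V) : Prop := ∀ a : A, ∀ v ∈ U, a • v ∈ U

variable (A V) in
/-- Complete reducibility. -/
def IsCR : Prop := ∀ U : AddSubgroup V, IsInv A U → ∃ W, IsInv A W ∧ U ⊓ W = ⊥ ∧ U ⊔ W = ⊤

variable (A V) in
/-- Irreducibility (the zero module counts as irreducible). -/
def IsIrr : Prop := ∀ U : AddSubgroup V, IsInv A U → U = ⊥ ∨ U = ⊤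

theorem isCR_of_isIrr (h : IsIrr A V) : IsCR A V := by
  intro U hU
  rcases h U hU with rfl | rfl
  · exact ⟨⊤, fun _ _ _ => trivial, bot_inf_eq _, bot_sup_eq _⟩
  · refine ⟨⊥, fun a v hv => ?_, inf_bot_eq _, sup_bot_eq _⟩
    rw [AddSubgroup.mem_bot] at hv ⊢
    rw [hv, smul_zero]

/-- The action on an invariant additive subgroup. -/
@[reducible] def invAction (U : AddSubgroup V) (h : IsInv A U) : DistribMulAction A U where
  smul a v := ⟨a • (v : V), h a v v.2⟩
  one_smul v := Subtype.ext (one_smul A (v : V))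
  mul_smul a b v := Subtype.ext (mul_smul a b (v : V))
  smul_zero a := Subtype.ext (smul_zero a)
  smul_add a v w := Subtype.ext (smul_add a (v : V) (w : V))

theorem isCR_invAction (hcr : IsCR A V) (U : AddSubgroup V) (h : IsInv A U) :
    @IsCR A U _ _ (invAction U h) := by
  letI := invAction U h
  intro X hX
  have hXV : IsInv A (X.map U.subtype) := by
    rintro a _ ⟨x, hx, rfl⟩
    exact ⟨a • x, hX a x hx, rfl⟩
  obtain ⟨Y, hY, hinf, hsup⟩ := hcr _ hXV
  refine ⟨Y.comap U.subtype, fun a v hv => hY a _ hv, ?_, ?_⟩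
  · rw [eq_bot_iff]
    rintro x ⟨hx, hy⟩
    have : (x : V) ∈ X.map U.subtype ⊓ Y := ⟨⟨x, hx, rfl⟩, hy⟩
    rw [hinf, AddSubgroup.mem_bot] at this
    exact AddSubgroup.mem_bot.mpr (Subtype.ext this)
  · rw [eq_top_iff]
    intro x _
    have : (x : V) ∈ X.map U.subtype ⊔ Y := by rw [hsup]; trivial
    obtain ⟨_, ⟨x', hx', rfl⟩, y, hy, hxy⟩ := AddSubgroup.mem_sup.mp this
    have hyU : y ∈ U := by
      have : y = (x : V) - (x' : V) := eq_sub_of_add_eq' hxy
      rw [this]; exact U.sub_mem x.2 x'.2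
    exact AddSubgroup.mem_sup.mpr ⟨x', hx', ⟨y, hyU⟩, hy, Subtype.ext hxy⟩

/-- Pairs in two complementary invariant subgroups give a pair. -/
theorem hasPair_of_compl (U W : AddSubgroup V) (hU : IsInv A U) (hW : IsInv A W)
    (hinf : U ⊓ W = ⊥) (hsup : U ⊔ W = ⊤)
    (pU : @HasPair A U _ _ (invAction U hU)) (pW : @HasPair A W _ _ (invAction W hW)) :
    HasPair A V := by
  obtain ⟨u1, u2, hu⟩ := pU
  obtain ⟨w1, w2, hw⟩ := pW
  refine ⟨(u1 : V) + w1, (u2 : V) + w2, fun a h1 h2 => ?_⟩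
  have split : ∀ (u : U) (w : W), a • ((u : V) + w) = (u : V) + w →
      a • (u : V) = u ∧ a • (w : V) = w := by
    intro u w h
    rw [smul_add] at h
    have e : a • (u : V) - u = w - a • (w : V) := sub_eq_sub_iff_add_eq_add.mpr (by rw [h, add_comm])
    have : a • (u : V) - u ∈ U ⊓ W :=
      ⟨U.sub_mem (hU a _ u.2) u.2, e ▸ W.sub_mem w.2 (hW a _ w.2)⟩
    rw [hinf, AddSubgroup.mem_bot, sub_eq_zero] at this
    exact ⟨this, by rw [this] at h; exact add_left_cancel h⟩
  obtain ⟨e1, f1⟩ := split u1 w1 h1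
  obtain ⟨e2, f2⟩ := split u2 w2 h2
  intro x
  have hx : x ∈ U ⊔ W := by rw [hsup]; trivial
  obtain ⟨y, hy, z, hz, rfl⟩ := AddSubgroup.mem_sup.mp hx
  rw [smul_add]
  congr 1
  · exact congrArg Subtype.val (hu a (Subtype.ext e1) (Subtype.ext e2) ⟨y, hy⟩)
  · exact congrArg Subtype.val (hw a (Subtype.ext f1) (Subtype.ext f2) ⟨z, hz⟩)

/-- In a finite group of odd order, fixed points of a square are fixed points. -/
theorem smul_eq_of_sq {X : Type*} [Finite A] [MulAction A X] (hodd : Odd (Nat.card A)) {a : A} {x : X}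
    (h : a • a • x = x) : a • x = x := by
  obtain ⟨k, hk⟩ := hodd
  have h2 : ∀ j : ℕ, (a ^ 2) ^ j • x = x := by
    intro j
    induction j with
    | zero => rw [pow_zero, one_smul]
    | succ j ih => rw [pow_succ, mul_smul, pow_two a, mul_smul, h, ← pow_two, ih]
  have h3 : (a ^ 2) ^ (k + 1) = a := by
    rw [← pow_mul, show 2 * (k + 1) = Nat.card A + 1 by omega, pow_succ, pow_card_eq_one', one_mul]
  have h4 := h2 (k + 1)
  rwa [h3] at h4

/-- Two pairs in different orbits. -/
theorem exists_two_pairs [Finite A] [Nontrivial V] (hodd : Odd (Nat.card A)) (h : HasPair A V) :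
    ∃ p q : V × V, (∀ a : A, a • p.1 = p.1 → a • p.2 = p.2 → ∀ x : V, a • x = x) ∧
      (∀ a : A, a • q.1 = q.1 → a • q.2 = q.2 → ∀ x : V, a • x = x) ∧
      ∀ a : A, ¬ (a • p.1 = q.1 ∧ a • p.2 = q.2) := by
  obtain ⟨v, w, hvw⟩ := h
  by_cases hne : v = w
  · subst hne
    obtain ⟨v₀, hv₀, hfix⟩ : ∃ v₀ : V, v₀ ≠ 0 ∧ ∀ a : A, a • v₀ = v₀ → ∀ x : V, a • x = x := by
      by_cases hv : v = 0
      · obtain ⟨v₀, hv₀⟩ := exists_ne (0 : V)
        exact ⟨v₀, hv₀, fun a _ => hvw a (by rw [hv, smul_zero]) (by rw [hv, smul_zero])⟩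
      · exact ⟨v, hv, fun a ha => hvw a ha ha⟩
    refine ⟨(v₀, 0), (0, v₀), fun a ha _ => hfix a ha, fun a _ ha => hfix a ha, ?_⟩
    rintro a ⟨ha, -⟩
    exact hv₀ ((smul_eq_zero_iff_eq a).mp ha)
  · refine ⟨(v, w), (w, v), hvw, fun a h1 h2 => hvw a h2 h1, ?_⟩
    rintro a ⟨h1, h2⟩
    have h3 : a • v = v := smul_eq_of_sq hodd (by rw [h1, h2])
    exact hne (h3.symm.trans h1)

/-- A subgroup acting faithfully has order at most a quarter of the square of an odd module. -/
theorem four_mul_card_le [Finite A] [Finite V] [Nontrivial V] (hodd : Odd (Nat.card A))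
    (hV : Odd (Nat.card V)) (h : HasPair A V) (H : Subgroup A)
    (hfaith : ∀ a ∈ H, (∀ x : V, a • x = x) → a = 1) :
    4 * Nat.card H ≤ Nat.card V * Nat.card V := by
  obtain ⟨v, w, hv, hw, hvw⟩ : ∃ v w : V, v ≠ 0 ∧ w ≠ 0 ∧
      ∀ a : A, a • v = v → a • w = w → ∀ x : V, a • x = x := by
    obtain ⟨v, w, hvw⟩ := h
    by_cases hv : v = 0
    · by_cases hw : w = 0
      · obtain ⟨v₀, hv₀⟩ := exists_ne (0 : V)
        exact ⟨v₀, v₀, hv₀, hv₀, fun a _ _ => hvw a (by rw [hv, smul_zero]) (by rw [hw, smul_zero])⟩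
      · exact ⟨w, w, hw, hw, fun a ha _ => hvw a (by rw [hv, smul_zero]) ha⟩
    · by_cases hw : w = 0
      · exact ⟨v, v, hv, hv, fun a ha _ => hvw a ha (by rw [hw, smul_zero])⟩
      · exact ⟨v, w, hv, hw, hvw⟩
  have hneg : ∀ x : V, x ≠ 0 → -x ≠ x := by
    intro x hx he
    have h2 : 2 • x = 0 := by
      rw [two_nsmul]
      nth_rewrite 1 [← he]
      exact neg_add_cancel x
    have h3 := addOrderOf_dvd_of_nsmul_eq_zero h2
    rcases (Nat.dvd_prime Nat.prime_two).mp h3 with h4 | h4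
    · exact hx (AddMonoid.addOrderOf_eq_one_iff.mp h4)
    · have := addOrderOf_dvd_natCard x
      rw [h4] at this
      exact (Nat.not_even_iff_odd.mpr hV) (even_iff_two_dvd.mpr this)
  let sg : Bool → V → V := fun s x => if s then x else -x
  have hsg : ∀ (a : A) (s : Bool) (x : V), a • sg s x = sg s (a • x) := by
    intro a s x
    cases s <;> simp [sg]
  have key : ∀ (x : V), x ≠ 0 → ∀ (a b : A) (s t : Bool), sg s (a • x) = sg t (b • x) →
      s = t ∧ (b⁻¹ * a) • x = x := by
    intro x hx a b s t he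
    have hc := congrArg (fun y => b⁻¹ • y) he
    simp only [hsg, inv_smul_smul, ← mul_smul] at hc
    cases s <;> cases t <;> simp [sg] at hc
    · exact ⟨rfl, hc⟩
    · exfalso
      have h2 : (b⁻¹ * a) • x = -x := neg_eq_iff_eq_neg.mp hc
      exact hneg x hx (h2.symm.trans (smul_eq_of_sq hodd (by rw [show (b⁻¹ * a) • (b⁻¹ * a) • x = (b⁻¹ * a) • (-x) by rw [h2], smul_neg, h2, neg_neg])))
    · exfalso
      have h2 : (b⁻¹ * a) • x = -x := hc
      exact hneg x hx (h2.symm.trans (smul_eq_of_sq hodd (by rw [show (b⁻¹ * a) • (b⁻¹ * a) • x = (b⁻¹ * a) • (-x) by rw [h2], smul_neg, h2, neg_neg])))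
    · exact ⟨rfl, hc⟩
  have hinj : Function.Injective
      (fun z : H × Bool × Bool => (sg z.2.1 ((z.1 : A) • v), sg z.2.2 ((z.1 : A) • w))) := by
    rintro ⟨a, s, t⟩ ⟨b, s', t'⟩ he
    simp only [Prod.mk.injEq] at he
    obtain ⟨e1, f1⟩ := key v hv a b s s' he.1
    obtain ⟨e2, f2⟩ := key w hw a b t t' he.2
    have := hfaith _ (H.mul_mem (H.inv_mem b.2) a.2) (hvw _ f1 f2)
    rw [inv_mul_eq_one] at this
    simp [e1, e2, Subtype.ext this.symm]
  have := Nat.card_le_card_of_injective _ hinj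
  simp only [Nat.card_prod, Nat.card_eq_fintype_card, Fintype.card_bool] at this
  simpa [Nat.card_prod, mul_comm, mul_left_comm] using this

/-- The induction hypothesis: pairs exist for modules of size at most `n`. -/
def ModHyp (n : ℕ) : Prop :=
  ∀ (A : Type u) (V : Type u) [Group A] [Finite A] [AddCommGroup V] [Finite V] [DistribMulAction A V],
    Group.IsSolvable A → Odd (Nat.card A) → IsCR A V → Nat.card V ≤ n → HasPair A V

/-- A reducible module. -/
theorem hasPair_of_reducible {A : Type u} {V : Type u} [Group A] [Finite A] [AddCommGroup V] [Finite V]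
    [DistribMulAction A V] (hsol : Group.IsSolvable A) (hodd : Odd (Nat.card A)) (hcr : IsCR A V)
    {n : ℕ} (hn : Nat.card V ≤ n + 1) (IH : ModHyp.{u} n) (hred : ¬ IsIrr A V) : HasPair A V := by
  obtain ⟨U, hU, hU0, hU1⟩ : ∃ U : AddSubgroup V, IsInv A U ∧ U ≠ ⊥ ∧ U ≠ ⊤ := by
    simpa [IsIrr, not_or] using hred
  obtain ⟨W, hW, hinf, hsup⟩ := hcr U hU
  have hW1 : W ≠ ⊤ := fun e => hU0 (by rw [e, inf_top_eq] at hinf; exact hinf)
  have hlt : ∀ X : AddSubgroup V, X ≠ ⊤ → Nat.card X ≤ n := fun X hX => by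
    have : Nat.card X < Nat.card V := lt_of_le_of_ne (AddSubgroup.card_le_card_addGroup X)
      fun h => hX (AddSubgroup.eq_top_of_card_eq X h)
    omega
  letI := invAction U hU
  refine hasPair_of_compl U W hU hW hinf hsup (IH A U hsol hodd (isCR_invAction hcr U hU) (hlt U hU1)) ?_
  letI := invAction W hW
  exact IH A W hsol hodd (isCR_invAction hcr W hW) (hlt W hW1)

/-- The imprimitive case, given a subset of blocks with trivial stabiliser. -/
theorem hasPair_of_blocks {A : Type u} {V : Type u} [Group A] [Finite A] [AddCommGroup V] [Finite V]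
    [DistribMulAction A V] (hsol : Group.IsSolvable A) (hodd : Odd (Nat.card A)) (hirr : IsIrr A V)
    {n : ℕ} (hn : Nat.card V ≤ n + 1) (IH : ModHyp.{u} n)
    {ι : Type u} [Fintype ι] [MulAction A ι] [MulAction.IsPretransitive A ι] [Nontrivial ι]
    (π : ι → AddMonoid.End V) (hidem : ∀ i, ∀ v : V, π i (π i v) = π i v)
    (horth : ∀ i j, i ≠ j → ∀ v : V, π i (π j v) = 0)
    (hsum : ∀ v : V, ∑ i, π i v = v) (hequiv : ∀ (a : A) (i : ι) (v : V), a • π i v = π (a • i) (a • v))
    (hne : ∀ i, π i ≠ 0)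
    (S : Set ι) (hS : ∀ a : A, (∀ i, a • i ∈ S ↔ i ∈ S) → ∀ i : ι, a • i = i) :
    HasPair A V := by
  classical
  obtain ⟨i₀, j₀, hij⟩ := exists_pair_ne ι
  let B : AddSubgroup V := (π i₀ : V →+ V).range
  have hB : ∀ x ∈ B, π i₀ x = x := by rintro _ ⟨v, rfl⟩; exact hidem i₀ v
  let St := MulAction.stabilizer A i₀
  have hBinv : IsInv St B := by
    rintro ⟨a, ha⟩ _ ⟨v, rfl⟩
    refine ⟨a • v, ?_⟩
    show π i₀ (a • v) = a • π i₀ v
    rw [hequiv a i₀ v, MulAction.mem_stabilizer_iff.mp ha]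
  letI := invAction B hBinv
  have hBirr : IsIrr St B := by
    intro X hX
    by_cases hX0 : X = ⊥
    · exact Or.inl hX0
    right
    let U : AddSubgroup V := AddSubgroup.closure {y : V | ∃ a : A, ∃ x ∈ X, a • (x : V) = y}
    have hUinv : IsInv A U := by
      intro a v hv
      induction hv using AddSubgroup.closure_induction with
      | mem y hy =>
        obtain ⟨b, x, hx, rfl⟩ := hy
        exact AddSubgroup.subset_closure ⟨a * b, x, hx, mul_smul a b _⟩
      | zero => rw [smul_zero]; exact U.zero_mem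
      | add y z _ _ hy hz => rw [smul_add]; exact U.add_mem hy hz
      | neg y _ hy => rw [smul_neg]; exact U.neg_mem hy
    have hUtop : U = ⊤ := (hirr U hUinv).resolve_left fun hbot => hX0 (by
      rw [eq_bot_iff]
      intro x hx
      have : (x : V) ∈ U := AddSubgroup.subset_closure ⟨1, x, hx, one_smul A _⟩
      rw [hbot, AddSubgroup.mem_bot] at this
      exact AddSubgroup.mem_bot.mpr (Subtype.ext this))
    have key : ∀ y ∈ U, ∃ x ∈ X, (x : V) = π i₀ y := by
      intro y hy
      induction hy using AddSubgroup.closure_induction with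
      | mem y hy =>
        obtain ⟨a, x, hx, rfl⟩ := hy
        have e : π i₀ (a • (x : V)) = a • π (a⁻¹ • i₀) (x : V) := by rw [hequiv, smul_inv_smul]
        by_cases hfix : a • i₀ = i₀
        · refine ⟨(⟨a, hfix⟩ : St) • x, hX _ x hx, ?_⟩
          rw [e, inv_smul_eq_iff.mpr hfix.symm, hB x x.2]
          rfl
        · refine ⟨0, X.zero_mem, ?_⟩
          rw [e, ← hB x x.2, horth _ _ (fun h => hfix (inv_smul_eq_iff.mp h).symm), smul_zero]
          rfl
      | zero => exact ⟨0, X.zero_mem, by rw [map_zero]; rfl⟩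
      | add y z _ _ hy hz =>
        obtain ⟨x, hx, e⟩ := hy
        obtain ⟨x', hx', e'⟩ := hz
        exact ⟨x + x', X.add_mem hx hx', by rw [map_add, ← e, ← e']; rfl⟩
      | neg y _ hy =>
        obtain ⟨x, hx, e⟩ := hy
        exact ⟨-x, X.neg_mem hx, by rw [map_neg, ← e]; rfl⟩
    rw [eq_top_iff]
    intro b _
    obtain ⟨x, hx, e⟩ := key b (by rw [hUtop]; trivial)
    rw [hB b b.2] at e
    rwa [← Subtype.ext e]
  have hnontriv : Nontrivial B := by
    rw [AddSubgroup.nontrivial_iff_ne_bot]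
    intro h
    exact hne i₀ (AddMonoidHom.ext fun v => AddSubgroup.mem_bot.mp (h ▸ ⟨v, rfl⟩))
  have hBlt : Nat.card B ≤ n := by
    have : Nat.card B < Nat.card V := by
      refine lt_of_le_of_ne (AddSubgroup.card_le_card_addGroup B) fun h => hne j₀ ?_
      have htop := AddSubgroup.eq_top_of_card_eq B h
      refine AddMonoidHom.ext fun v => ?_
      obtain ⟨w, hw⟩ : v ∈ B := htop ▸ trivial
      show π j₀ v = 0
      rw [← hw]
      exact horth j₀ i₀ hij.symm w
    omega
  haveI : Group.IsSolvable St := by haveI := hsol; infer_instance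
  have hoddSt : Odd (Nat.card St) := hodd.of_dvd_nat (Subgroup.card_subgroup_dvd_card St)
  obtain ⟨p, q, hp, hq, hpq⟩ := exists_two_pairs hoddSt
    (IH St B inferInstance hoddSt (isCR_of_isIrr hBirr) hBlt)
  choose t ht using fun i => MulAction.exists_smul_eq A i₀ i
  let c : ι → B × B := fun i => if i ∈ S then p else q
  let f : (B × B → B) → V := fun g => ∑ i, t i • (g (c i) : V)
  have hproj : ∀ g i, π i (f g) = t i • (g (c i) : V) := by
    intro g i
    rw [map_sum]
    refine (Finset.sum_eq_single i (fun j _ hji => ?_) (by simp)).trans ?_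
    · rw [← hB _ (g (c j)).2, hequiv, ht, horth i j hji.symm]
    · rw [← hB _ (g (c i)).2, hequiv, ht, hidem]
  refine ⟨f Prod.fst, f Prod.snd, fun a h1 h2 => ?_⟩
  have hmem : ∀ i, (t (a • i))⁻¹ * a * t i ∈ St := fun i => by
    rw [MulAction.mem_stabilizer_iff, mul_smul, mul_smul, ht, inv_smul_eq_iff, ht]
  have hstep : ∀ g, a • f g = f g → ∀ i, (⟨_, hmem i⟩ : St) • g (c i) = g (c (a • i)) := by
    intro g hg i
    have e := hequiv a i (f g)
    rw [hg, hproj, hproj] at e
    refine Subtype.ext ?_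
    show ((t (a • i))⁻¹ * a * t i) • (g (c i) : V) = _
    rw [mul_smul, mul_smul, e, inv_smul_smul]
  have hc : ∀ i, a • i ∈ S ↔ i ∈ S := by
    intro i
    have e1 := hstep _ h1 i
    have e2 := hstep _ h2 i
    by_cases hi : i ∈ S <;> by_cases hai : a • i ∈ S <;> simp only [hi, hai]
    · simp [c, hi, hai] at e1 e2
      exact absurd ⟨e1, e2⟩ (hpq _)
    · simp [c, hi, hai] at e1 e2
      refine absurd ⟨?_, ?_⟩ (hpq (⟨_, hmem i⟩ : St)⁻¹) <;> rw [inv_smul_eq_iff]
      · exact e1.symm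
      · exact e2.symm
  have hperm := hS a hc
  intro x
  rw [← hsum x, Finset.smul_sum]
  refine Finset.sum_congr rfl fun i _ => ?_
  have hreg : ∀ b : B, (⟨_, hmem i⟩ : St) • b = b := by
    have e1 := hstep _ h1 i
    have e2 := hstep _ h2 i
    have hci : c (a • i) = c i := by rw [hperm i]
    rw [hci] at e1 e2
    by_cases hi : i ∈ S <;> simp only [c, hi, if_true, if_false] at e1 e2
    · exact hp _ e1 e2
    · exact hq _ e1 e2
  have hy : (t i)⁻¹ • π i x ∈ B := ⟨(t i)⁻¹ • x, by
    show π i₀ _ = _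
    rw [hequiv, show (t i)⁻¹ • i = i₀ from inv_smul_eq_iff.mpr (ht i).symm]⟩
  have e := congrArg Subtype.val (hreg ⟨_, hy⟩)
  change ((t (a • i))⁻¹ * a * t i) • ((t i)⁻¹ • π i x) = (t i)⁻¹ • π i x at e
  rw [hperm i, mul_smul, mul_smul, smul_inv_smul] at e
  exact MulAction.injective _ e

end Cfsg.Agent.BaseTwo
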