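import Cfsg.Agent.Lib.Grp.BaseTwo.Pairing
import Cfsg.Agent.Lib.Grp.BaseTwo.Layer
import Cfsg.Agent.Lib.Grp.BaseTwo.Semilinear
import Cfsg.Agent.Lib.Grp.BaseTwo.Gluck

/-!
# Bounds on the layer of a semilinear group

Numerical facts about the layer above a maximal abelian normal subgroup acting by scalars.
-/

set_option autoImplicit false
set_option linter.style.haveILetI false

universe u

namespace Cfsg.Agent.BaseTwo

open scoped commutatorElement

/-- A semilinear action in which a normal subgroup acts by scalars and its centraliser linearly. -/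
structure SemiData (A V K : Type u) [Group A] [AddCommGroup V] [DistribMulAction A V] [Field K]
    [Module K V] (Z : Subgroup A) where
  σ : A →* RingAut K
  semilinear : ∀ (a : A) (k : K) (v : V), a • k • v = σ a k • a • v
  ι : Z →* Kˣ
  scalar : ∀ (z : Z) (v : V), (z : A) • v = (ι z : K) • v
  ker_eq : σ.ker = Subgroup.centralizer (Z : Set A)

/-- A group of automorphisms acting on the additive copy. -/
@[reducible] def autAdd {W : Type*} [CommGroup W] (S : Subgroup (MulAut W)) :
    DistribMulAction S (Additive W) where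
  smul g x := Additive.ofMul ((g : MulAut W) x.toMul)
  one_smul _ := rfl
  mul_smul _ _ _ := rfl
  smul_zero g := congrArg Additive.ofMul (map_one (g : MulAut W))
  smul_add g x y := congrArg Additive.ofMul (map_mul (g : MulAut W) x.toMul y.toMul)

section

variable {A V K : Type u} [Group A] [AddCommGroup V] [Nontrivial V] [DistribMulAction A V]
  [FaithfulSMul A V] [Field K] [Module K V] {Z : Subgroup A} (D : SemiData A V K Z)

include D in
omit [Nontrivial V] [FaithfulSMul A V] in
theorem SemiData.linear {g : A} (hg : g ∈ Subgroup.centralizer (Z : Set A)) (k : K) (v : V) :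
    g • k • v = k • g • v := by
  rw [← D.ker_eq] at hg
  rw [D.semilinear, MonoidHom.mem_ker.mp hg]
  rfl

omit [Nontrivial V] in
theorem SemiData.ι_injective : Function.Injective D.ι := by
  intro z w h
  refine Subtype.ext (eq_of_smul_eq_smul fun v : V => ?_)
  rw [D.scalar, D.scalar, h]

theorem SemiData.σ_ι [Z.Normal] (a : A) (z : Z) :
    D.σ a (D.ι z : K) = (D.ι ⟨a * z * a⁻¹, Subgroup.Normal.conj_mem inferInstance _ z.2 a⟩ : K) := by
  obtain ⟨v, hv⟩ := exists_ne (0 : V)
  refine smul_left_injective K hv ?_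
  show D.σ a (D.ι z : K) • v = _ • v
  rw [← D.scalar, mul_smul, mul_smul, D.scalar, D.semilinear, smul_inv_smul]

end

theorem fix_primes_nine {m i : ℕ} (hm : m.Prime) (hi : i < 2) (hm2 : m ≠ 2) (h : m ∣ 3 ^ 2 - 3 ^ i) :
    m = 3 := by
  have hle := Nat.le_of_dvd (by interval_cases i <;> norm_num) h
  interval_cases i <;> norm_num at hle h <;> interval_cases m <;> norm_num at *

theorem fix_primes_twentyfive {m i : ℕ} (hm : m.Prime) (hi : i < 2) (hm2 : m ≠ 2)
    (h : m ∣ 5 ^ 2 - 5 ^ i) : m = 5 ∨ m = 3 := by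
  have hle := Nat.le_of_dvd (by interval_cases i <;> norm_num) h
  interval_cases i <;> norm_num at hle h <;> interval_cases m <;> norm_num at *

theorem fix_primes_eightyone {m i : ℕ} (hm : m.Prime) (hi : i < 4) (hm2 : m ≠ 2)
    (h : m ∣ 3 ^ 4 - 3 ^ i) : m = 3 ∨ m = 5 ∨ (m = 13 ∧ i = 1) := by
  have hle := Nat.le_of_dvd (by interval_cases i <;> norm_num) h
  interval_cases i <;> norm_num at hle h <;> interval_cases m <;> norm_num at *

theorem odd_dvd_six {h : ℕ} (ho : Odd h) (hd : h ∣ 3 * (3 - 1)) : h ≤ 3 := by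
  have := Nat.le_of_dvd (by norm_num) hd
  norm_num at this hd
  interval_cases h <;> norm_num at *

theorem odd_dvd_twenty {h : ℕ} (ho : Odd h) (hd : h ∣ 5 * (5 - 1)) : h ≤ 5 := by
  have := Nat.le_of_dvd (by norm_num) hd
  norm_num at this hd
  interval_cases h <;> norm_num [parity_simps] at *

set_option maxHeartbeats 1600000 in
/-- Numerical facts about the layer. -/
theorem layer_bounds {A V K : Type u} [Group A] [Finite A] [AddCommGroup V] [Finite V] [Nontrivial V]
    [DistribMulAction A V] [FaithfulSMul A V] [Field K] [Finite K] [Module K V] {Z : Subgroup A}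
    [Z.Normal] (D : SemiData A V K Z) (hsol : Group.IsSolvable A) (hodd : Odd (Nat.card A))
    {n : ℕ} (hn : Nat.card V ≤ n + 1) (IH : ModHyp.{u} n)
    (M : Subgroup A) [M.Normal] (hZM : Z < M) (hMC : M ≤ Subgroup.centralizer (Z : Set A))
    (hcomm : ∀ x ∈ M, ∀ y ∈ M, ⁅x, y⁆ ∈ Z)
    (hcenM : ∀ x ∈ M, (∀ y ∈ M, x * y = y * x) → x ∈ Z)
    (hcenC : ∀ g ∈ Subgroup.centralizer (Z : Set A), (∀ y ∈ M, g * y = y * g) → g ∈ Z)
    (hcompl : ∀ X : Subgroup A, X.Normal → Z ≤ X → X ≤ M →
      ∃ Y : Subgroup A, Y.Normal ∧ Z ≤ Y ∧ Y ≤ M ∧ X ⊓ Y = Z ∧ X ⊔ Y = M) :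
    ∃ E H : ℕ, Nat.card (Subgroup.centralizer (Z : Set A)) = Nat.card Z * E * H ∧
      E ≤ Module.finrank K V * Module.finrank K V ∧ Odd E ∧ 9 ≤ E ∧ E ≠ 27 ∧
      (∀ r : ℕ, r.Prime → r ∣ E → r ^ 2 ∣ E) ∧ (∀ r : ℕ, r.Prime → r ∣ E → r < Nat.card K) ∧
      4 * H ≤ E * E ∧ (E = 9 → H ≤ 1) ∧ (E = 25 → H ≤ 3) ∧ (E = 81 → H ≤ 5) := by
  classical
  set C := Subgroup.centralizer (Z : Set A) with hC
  haveI := hsol
  haveI : FiniteDimensional K V := Module.Finite.of_finite
  haveI hfinM : Finite (M →* Kˣ) := Finite.of_injective (fun f : M →* Kˣ => (f : M → Kˣ)) DFunLike.coe_injective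
  have hZmul : ∀ g ∈ C, ∀ z ∈ Z, g * z = z * g := fun g hg z hz =>
    ((Subgroup.mem_centralizer_iff.mp hg) z hz).symm
  -- commutators as scalars
  have hchar : ∀ g ∈ C, ∀ h : (∀ m ∈ M, ⁅g, m⁆ ∈ Z), ∃ χ : M →* Kˣ, ∀ m : M, χ m = D.ι ⟨⁅g, (m : A)⁆, h m m.2⟩ := by
    intro g _ h
    refine ⟨MonoidHom.mk' (fun m : M => D.ι ⟨⁅g, (m : A)⁆, h m m.2⟩) fun m m' => ?_, fun m => rfl⟩
    rw [← map_mul]
    congr 1
    refine Subtype.ext ?_
    show ⁅g, (m : A) * (m' : A)⁆ = ⁅g, (m : A)⁆ * ⁅g, (m' : A)⁆
    have e := hZmul m (hMC m.2) _ (h m' m'.2)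
    calc ⁅g, (m : A) * (m' : A)⁆ = ⁅g, (m : A)⁆ * ((m : A) * ⁅g, (m' : A)⁆ * (m : A)⁻¹) := by
          simp only [commutatorElement_def]; group
      _ = _ := by rw [e]; group
  choose χ hχ using hchar
  let β : M →* (M →* Kˣ) := MonoidHom.mk' (fun x => χ x (hMC x.2) fun m hm => hcomm x x.2 m hm) (by
    intro x y
    refine MonoidHom.ext fun m => ?_
    rw [MonoidHom.mul_apply, hχ, hχ, hχ, ← map_mul]
    congr 1
    refine Subtype.ext ?_
    show ⁅(x : A) * (y : A), (m : A)⁆ = ⁅(x : A), (m : A)⁆ * ⁅(y : A), (m : A)⁆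
    have e := hZmul x (hMC x.2) _ (hcomm y y.2 m m.2)
    have e' := hZmul _ (hMC (SetLike.le_def.mp hZM.le (hcomm y y.2 m m.2))) _ (hcomm x x.2 m m.2)
    rw [← e']
    calc ⁅(x : A) * (y : A), (m : A)⁆ = ((x : A) * ⁅(y : A), (m : A)⁆ * (x : A)⁻¹) * ⁅(x : A), (m : A)⁆ := by
          simp only [commutatorElement_def]; group
      _ = _ := by rw [e]; group)
  have hβ : ∀ x m : M, β x m = D.ι ⟨⁅(x : A), (m : A)⁆, hcomm x x.2 m m.2⟩ := fun x m => hχ _ _ _ m
  have hskew : ∀ x m : M, β x m = (β m x)⁻¹ := fun x m => by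
    rw [hβ, hβ, ← map_inv]
    congr 1
    exact Subtype.ext (commutatorElement_inv _ _).symm
  have hβker : β.ker = Z.subgroupOf M := by
    ext x
    rw [MonoidHom.mem_ker, Subgroup.mem_subgroupOf]
    constructor
    · intro h
      refine hcenM x x.2 fun y hy => ?_
      have e := DFunLike.congr_fun h (⟨y, hy⟩ : M)
      rw [hβ, MonoidHom.one_apply, map_eq_one_iff _ D.ι_injective] at e
      exact commutatorElement_eq_one_iff_mul_comm.mp (congrArg Subtype.val e)
    · intro h
      refine MonoidHom.ext fun m => ?_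
      rw [hβ, MonoidHom.one_apply, map_eq_one_iff _ D.ι_injective]
      refine Subtype.ext (commutatorElement_eq_one_iff_mul_comm.mpr ?_)
      exact (hZmul m (hMC m.2) x h).symm
  set W := β.range with hW
  set E := Nat.card W with hE
  have hMcard : Nat.card M = Nat.card Z * E := by
    rw [← β.ker.card_mul_index, Subgroup.index_ker, hβker,
      Nat.card_congr (Subgroup.subgroupOfEquivOfLe hZM.le).toEquiv]
  choose rep hrep using fun f : W => MonoidHom.mem_range.mp f.2
  -- the pairing
  have hsym : ∀ f g : W, (f : M →* Kˣ) (rep g) = ((g : M →* Kˣ) (rep f))⁻¹ := fun f g => by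
    rw [← hrep f, ← hrep g, hskew, hrep]
  let b : W →* W →* Kˣ := MonoidHom.mk' (fun f => MonoidHom.mk' (fun g : W => (f : M →* Kˣ) (rep g))
      (fun g g' => by rw [hsym, hsym f g, hsym f g', Subgroup.coe_mul, MonoidHom.mul_apply, mul_inv]))
    (fun f f' => MonoidHom.ext fun g => rfl)
  have hb : ∀ x y : M, b (β.rangeRestrict x) (β.rangeRestrict y) = β x y := fun x y => by
    show β x (rep (β.rangeRestrict y)) = β x y
    rw [hskew x, hskew x y, hrep]
    rfl
  have hsurj : ∀ f : W, ∃ x : M, β.rangeRestrict x = f := β.rangeRestrict_surjective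
  have halt : ∀ f, b f f = 1 := fun f => by
    obtain ⟨x, rfl⟩ := hsurj f
    rw [hb, hβ, map_eq_one_iff _ D.ι_injective]
    exact Subtype.ext (commutatorElement_eq_one_iff_mul_comm.mpr rfl)
  have hnd : ∀ f, b f = 1 → f = 1 := fun f hf => by
    obtain ⟨x, rfl⟩ := hsurj f
    refine Subtype.ext (MonoidHom.ext fun m => ?_)
    have := DFunLike.congr_fun hf (β.rangeRestrict m)
    rwa [hb] at this
  -- the bound on the order
  have hEt : E ≤ Module.finrank K V * Module.finrank K V := by
    haveI : Fintype W := Fintype.ofFinite W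
    let L : M → V →ₗ[K] V := fun m =>
      { toFun := fun v => (m : A) • v
        map_add' := fun v w => smul_add _ v w
        map_smul' := fun k v => D.linear (hMC m.2) k v }
    have hli : LinearIndependent K (fun f : W => L (rep f)) := by
      rw [Fintype.linearIndependent_iff]
      intro c hc f₀
      have hchars : LinearIndependent K
          (fun f : W => (((Units.coeHom K).comp (f : M →* Kˣ) : M →* K) : M → K)) := by
        refine (linearIndependent_monoidHom M K).comp _ fun f g h => ?_
        exact Subtype.ext (MonoidHom.ext fun m => Units.ext (DFunLike.congr_fun h m))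
      have hzero : ∀ (v : V) (m : M), ∑ f : W, (c f * ((f : M →* Kˣ) m : K)) • ((rep f : A) • v) = 0 := by
        intro v m
        have h0 := DFunLike.congr_fun hc ((m : A) • v)
        simp only [LinearMap.sum_apply, LinearMap.smul_apply, LinearMap.zero_apply] at h0
        have h1 := congrArg (fun u : V => (m : A)⁻¹ • u) h0
        simp only [smul_zero, Finset.smul_sum] at h1
        rw [← h1]
        refine Finset.sum_congr rfl fun f _ => ?_
        show _ = (m : A)⁻¹ • c f • (rep f : A) • (m : A) • v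
        rw [D.linear (C.inv_mem (hMC m.2)), mul_smul]
        congr 1
        have e : (m : A)⁻¹ * (rep f : A) * (m : A) = ⁅(m : A)⁻¹, (rep f : A)⁆ * (rep f : A) := by
          simp only [commutatorElement_def]; group
        have e' : (f : M →* Kˣ) m = β m⁻¹ (rep f) := by
          rw [map_inv, MonoidHom.inv_apply, hskew, inv_inv, hrep]
        rw [← mul_smul, ← mul_smul, e, mul_smul, e', hβ, ← D.scalar]
        rfl
      obtain ⟨v, hv⟩ := exists_ne (0 : V)
      obtain ⟨φ, hφ⟩ : ∃ φ : Module.Dual K V, φ ((rep f₀ : A) • v) ≠ 0 := by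
        by_contra h
        push Not at h
        exact hv ((smul_eq_zero_iff_eq _).mp ((Module.forall_dual_apply_eq_zero_iff K _).mp h))
      have hsum : ∑ f : W, (c f * φ ((rep f : A) • v)) •
          (((Units.coeHom K).comp (f : M →* Kˣ) : M →* K) : M → K) = 0 := by
        funext m
        have h := congrArg φ (hzero v m)
        simp only [map_sum, map_smul, map_zero, smul_eq_mul] at h
        rw [Finset.sum_apply, Pi.zero_apply, ← h]
        refine Finset.sum_congr rfl fun f _ => ?_
        show c f * φ ((rep f : A) • v) * ((f : M →* Kˣ) m : K) = _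
        ring
      exact (mul_eq_zero.mp (Fintype.linearIndependent_iff.mp hchars _ hsum f₀)).resolve_right hφ
    have := hli.fintype_card_le_finrank
    rwa [Module.finrank_linearMap, ← Nat.card_eq_fintype_card] at this
  -- characters of the layer
  have hdual : ∀ f : M →* Kˣ, (∀ z : M, (z : A) ∈ Z → f z = 1) → f ∈ W := by
    intro f hf
    let Q := M ⧸ β.ker
    haveI : Fintype Q := Fintype.ofFinite Q
    let S : Subgroup (M →* Kˣ) :=
      { carrier := {f | ∀ z ∈ β.ker, f z = 1}
        one_mem' := fun z _ => rfl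
        mul_mem' := fun {f g} hf hg z hz => by rw [MonoidHom.mul_apply, hf z hz, hg z hz, one_mul]
        inv_mem' := fun {f} hf z hz => by rw [MonoidHom.inv_apply, hf z hz, inv_one] }
    have hWS : W ≤ S := by
      rintro _ ⟨x, rfl⟩ z hz
      rw [hskew, MonoidHom.mem_ker.mp hz, MonoidHom.one_apply, inv_one]
    haveI : Fintype S := Fintype.ofFinite S
    have hSli : LinearIndependent K (fun g : S =>
        ((QuotientGroup.lift β.ker ((Units.coeHom K).comp (g : M →* Kˣ))
          (fun z hz => by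
            show ((g : M →* Kˣ) z : K) = 1
            rw [g.2 z hz, Units.val_one]) : Q →* K) : Q → K)) := by
      refine (linearIndependent_monoidHom Q K).comp _ fun g g' h => ?_
      exact Subtype.ext (MonoidHom.ext fun m => Units.ext (DFunLike.congr_fun h (QuotientGroup.mk m)))
    have hle := hSli.fintype_card_le_finrank
    rw [Module.finrank_fintype_fun_eq_card, ← Nat.card_eq_fintype_card, ← Nat.card_eq_fintype_card,
      ← Subgroup.index_eq_card, Subgroup.index_ker] at hle
    rw [Subgroup.eq_of_le_of_card_ge hWS hle]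
    exact fun z hz => hf z (by rwa [hβker, Subgroup.mem_subgroupOf] at hz)
  -- the action on the layer
  let cj : A →* MulAut M := MulAut.conjNormal
  have hcj : ∀ (a : A) (x : M), (cj a x : A) = a * x * a⁻¹ := fun a x => MulAut.conjNormal_apply a x
  have hform : ∀ (a : A) (x m : M), β (cj a x) (cj a m) = Units.map (D.σ a).toMonoidHom (β x m) := by
    intro a x m
    rw [hβ, hβ]
    refine Units.ext ?_
    show _ = D.σ a _
    rw [D.σ_ι]
    congr 2
    refine Subtype.ext ?_
    show ⁅(cj a x : A), (cj a m : A)⁆ = a * ⁅(x : A), (m : A)⁆ * a⁻¹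
    simp only [hcj, commutatorElement_def]
    group
  have hwell : ∀ (a : A) (x x' : M), β x = β x' → β (cj a x) = β (cj a x') := by
    intro a x x' h
    refine MonoidHom.ext fun m => ?_
    obtain ⟨m', rfl⟩ := (cj a).surjective m
    rw [hform, hform, h]
  let act : A → W → W := fun a f => β.rangeRestrict (cj a (rep f))
  have hact : ∀ (a : A) (x : M), act a (β.rangeRestrict x) = β.rangeRestrict (cj a x) := fun a x =>
    Subtype.ext (hwell a _ _ (hrep (β.rangeRestrict x)))
  let φ : A →* MulAut W :=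
    { toFun := fun a =>
        { toFun := act a
          invFun := act a⁻¹
          left_inv := fun f => by
            obtain ⟨x, rfl⟩ := hsurj f
            rw [hact a x, hact a⁻¹, ← MulAut.mul_apply, ← map_mul, inv_mul_cancel, map_one]
            rfl
          right_inv := fun f => by
            obtain ⟨x, rfl⟩ := hsurj f
            rw [hact a⁻¹ x, hact a, ← MulAut.mul_apply, ← map_mul, mul_inv_cancel, map_one]
            rfl
          map_mul' := fun f g => by
            obtain ⟨x, rfl⟩ := hsurj f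
            obtain ⟨y, rfl⟩ := hsurj g
            rw [← map_mul, hact, hact, hact, map_mul, map_mul] }
      map_one' := MulEquiv.ext fun f => by
        obtain ⟨x, rfl⟩ := hsurj f
        show act 1 (β.rangeRestrict x) = β.rangeRestrict x
        rw [hact, map_one]
        rfl
      map_mul' := fun a c => MulEquiv.ext fun f => by
        obtain ⟨x, rfl⟩ := hsurj f
        show act (a * c) _ = act a (act c _)
        rw [hact (a * c) x, hact c x, hact a, map_mul]
        rfl }
  have hφ : ∀ (a : A) (x : M), φ a (β.rangeRestrict x) = β.rangeRestrict (cj a x) := hact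
  have hMφ : ∀ g ∈ M, φ g = 1 := by
    intro g hg
    refine MulEquiv.ext fun f => ?_
    obtain ⟨x, rfl⟩ := hsurj f
    rw [hφ, MulAut.one_apply, show cj g x = ⟨g, hg⟩ * x * ⟨g, hg⟩⁻¹ from Subtype.ext (hcj g x), map_mul,
      map_mul, map_inv, mul_comm (β.rangeRestrict ⟨g, hg⟩), mul_assoc, mul_inv_cancel, mul_one]
  have hφker : ∀ g ∈ C, φ g = 1 → g ∈ M := by
    intro g hg hg1
    have hgM : ∀ m ∈ M, ⁅g, m⁆ ∈ Z := by
      intro m hm
      have e : β (cj g ⟨m, hm⟩) = β ⟨m, hm⟩ := by
        have h := hφ g ⟨m, hm⟩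
        rw [hg1, MulAut.one_apply] at h
        exact (congrArg Subtype.val h).symm
      have h1 : cj g ⟨m, hm⟩ * (⟨m, hm⟩ : M)⁻¹ ∈ β.ker := by
        rw [MonoidHom.mem_ker, map_mul, map_inv, e, mul_inv_cancel]
      rw [hβker, Subgroup.mem_subgroupOf, Subgroup.coe_mul, hcj] at h1
      rw [commutatorElement_def]
      exact h1
    obtain ⟨x, hx⟩ := hdual (χ g hg hgM) fun z hz => by
      rw [hχ, map_eq_one_iff _ D.ι_injective]
      exact Subtype.ext (commutatorElement_eq_one_iff_mul_comm.mpr (hZmul g hg z hz))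
    have hx' : (x : A)⁻¹ * g ∈ Z := by
      refine hcenC _ (C.mul_mem (C.inv_mem (hMC x.2)) hg) fun m hm => ?_
      have h := DFunLike.congr_fun hx (⟨m, hm⟩ : M)
      rw [hβ, hχ] at h
      have h' : ⁅(x : A), m⁆ = ⁅g, m⁆ := congrArg Subtype.val (D.ι_injective h)
      rw [commutatorElement_def, commutatorElement_def, mul_left_inj] at h'
      have h'' : (x : A) * m * (x : A)⁻¹ = g * m * g⁻¹ := h'
      calc (x : A)⁻¹ * g * m = (x : A)⁻¹ * (g * m * g⁻¹) * g := by group
        _ = m * ((x : A)⁻¹ * g) := by rw [← h'']; group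
    have : g = (x : A) * ((x : A)⁻¹ * g) := (mul_inv_cancel_left _ _).symm
    rw [this]
    exact M.mul_mem x.2 (hZM.le hx')
  set H' : Subgroup φ.range := C.map φ.rangeRestrict with hH'
  haveI : H'.Normal := Subgroup.Normal.map inferInstance _ φ.rangeRestrict_surjective
  have hcardC : Nat.card C = Nat.card Z * E * Nat.card H' := by
    let ψ : C →* φ.range := φ.rangeRestrict.comp C.subtype
    have hr : ψ.range = H' := by rw [hH', MonoidHom.range_comp, Subgroup.range_subtype]
    have hk : ψ.ker = M.subgroupOf C := by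
      ext g
      rw [MonoidHom.mem_ker, Subgroup.mem_subgroupOf]
      refine ⟨fun h => hφker g g.2 (congrArg Subtype.val h), fun h => Subtype.ext (hMφ g h)⟩
    rw [← ψ.ker.card_mul_index, Subgroup.index_ker, hr, hk,
      Nat.card_congr (Subgroup.subgroupOfEquivOfLe hMC).toEquiv, hMcard]
  -- the induced module
  have hoddR : Odd (Nat.card φ.range) := hodd.of_dvd_nat (Subgroup.card_range_dvd φ)
  have hoddE : Odd E := hodd.of_dvd_nat (dvd_trans (hMcard ▸ Dvd.intro_left _ rfl)
    (Subgroup.card_subgroup_dvd_card M))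
  haveI hWnt : Nontrivial W := by
    rw [Subgroup.nontrivial_iff_ne_bot, hW, Ne, MonoidHom.range_eq_bot_iff]
    intro h
    refine hZM.not_ge fun m hm => ?_
    have : (⟨m, hm⟩ : M) ∈ β.ker := by rw [MonoidHom.mem_ker, h]; rfl
    rwa [hβker] at this
  letI := autAdd φ.range
  have hfaith : ∀ g : φ.range, (∀ v : Additive W, g • v = v) → g = 1 := fun g hg =>
    Subtype.ext (MulEquiv.ext fun w => Additive.ofMul.injective (hg (Additive.ofMul w)))
  have hcr : IsCR φ.range (Additive W) := by
    intro U hU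
    let U₀ : Subgroup W := AddSubgroup.toSubgroup' U
    let X : Subgroup A := (U₀.comap β.rangeRestrict).map M.subtype
    have hXn : X.Normal := by
      refine ⟨?_⟩
      rintro _ ⟨x, hx, rfl⟩ a
      refine ⟨cj a x, ?_, hcj a x⟩
      have := hU ⟨φ a, a, rfl⟩ _ hx
      show β.rangeRestrict (cj a x) ∈ U₀
      rw [← hφ]
      exact this
    have hZX : Z ≤ X := fun z hz => by
      refine ⟨⟨z, hZM.le hz⟩, ?_, rfl⟩
      show β.rangeRestrict (⟨z, hZM.le hz⟩ : M) ∈ U₀
      rw [show β.rangeRestrict (⟨z, hZM.le hz⟩ : M) = 1 from Subtype.ext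
        (MonoidHom.mem_ker.mp (by rw [hβker]; exact hz))]
      exact U₀.one_mem
    obtain ⟨Y, hYn, hZY, hYM, hXY, hXYM⟩ := hcompl X hXn hZX (Subgroup.map_subtype_le _)
    let U₁ : Subgroup W := (Y.subgroupOf M).map β.rangeRestrict
    refine ⟨Subgroup.toAddSubgroup U₁, ?_, ?_, ?_⟩
    · rintro ⟨_, a, rfl⟩ w ⟨y, hy, hyw⟩
      refine ⟨cj a y, ?_, ?_⟩
      · show (cj a y : A) ∈ Y
        rw [hcj]
        exact hYn.conj_mem _ hy a
      · show β.rangeRestrict (cj a y) = φ a w.toMul
        rw [← hφ]
        exact congrArg (φ a) hyw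
    · rw [eq_bot_iff]
      rintro w ⟨hw, y, hy, hyw⟩
      have hyX : (y : A) ∈ X ⊓ Y := ⟨⟨y, by show β.rangeRestrict y ∈ U₀; rw [hyw]; exact hw, rfl⟩, hy⟩
      rw [hXY] at hyX
      have hy1 : β.rangeRestrict y = 1 := Subtype.ext (MonoidHom.mem_ker.mp (by rw [hβker]; exact hyX))
      rw [hy1] at hyw
      exact AddSubgroup.mem_bot.mpr hyw.symm
    · rw [eq_top_iff]
      intro w _
      obtain ⟨m, hm⟩ := hsurj w.toMul
      have hmXY : (m : A) ∈ X ⊔ Y := by rw [hXYM]; exact m.2
      haveI := hYn
      obtain ⟨_, ⟨x, hx, rfl⟩, y, hy, hxy⟩ := Subgroup.mem_sup_of_normal_right.mp hmXY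
      refine AddSubgroup.mem_sup.mpr ⟨Additive.ofMul (β.rangeRestrict x), hx,
        Additive.ofMul (β.rangeRestrict ⟨y, hYM hy⟩), ⟨⟨y, hYM hy⟩, hy, rfl⟩, ?_⟩
      show Additive.ofMul (β.rangeRestrict x * β.rangeRestrict ⟨y, hYM hy⟩) = w
      rw [← map_mul, show x * ⟨y, hYM hy⟩ = m from Subtype.ext hxy, hm]
      rfl
  have hVW : Nat.card (Additive W) = E := rfl
  have hsq : ∀ r : ℕ, r.Prime → r ∣ E → r ^ 2 ∣ E := fun r hr hd => sq_dvd_card b halt hnd hr hd
  have hE1 : 1 < E := Finite.one_lt_card
  have h9 : 9 ≤ E := by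
    obtain ⟨r, hr, hrE⟩ := Nat.exists_prime_and_dvd hE1.ne'
    have h2 := Nat.le_of_dvd (by omega) (hsq r hr hrE)
    have h3 : 3 ≤ r := by
      rcases hr.eq_two_or_odd' with rfl | ⟨k, hk⟩
      · exact absurd (hoddE.of_dvd_nat hrE) (by decide)
      · have := hr.two_le; omega
    nlinarith
  have hrq : ∀ r : ℕ, r.Prime → r ∣ E → r < Nat.card K := fun r hr hd => by
    have h1 := Nat.le_of_dvd Nat.card_pos (prime_dvd_card_values b hnd hr hd)
    rw [Nat.card_units] at h1
    have := Finite.one_lt_card (α := K)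
    omega
  have hEn : E ≤ n := by
    have hq4 : 4 ≤ Nat.card K := by
      obtain ⟨r, hr, hrE⟩ := Nat.exists_prime_and_dvd hE1.ne'
      have := hrq r hr hrE
      rcases hr.eq_two_or_odd' with rfl | ⟨k, hk⟩
      · exact absurd (hoddE.of_dvd_nat hrE) (by decide)
      · have := hr.two_le; omega
    set t := Module.finrank K V
    have hV : Nat.card V = Nat.card K ^ t := Module.natCard_eq_pow_finrank
    have hlt : ∀ m : ℕ, m * m < 4 ^ m := by
      intro m
      induction m with
      | zero => norm_num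
      | succ m ih =>
        rw [pow_succ]
        rcases Nat.eq_zero_or_pos m with rfl | hm
        · norm_num
        · nlinarith
    have := lt_of_lt_of_le (hlt t) (Nat.pow_le_pow_left hq4 t)
    omega
  haveI : Group.IsSolvable φ.range := Group.isSolvable_of_surjective φ.rangeRestrict_surjective
  have hpair : HasPair φ.range (Additive W) :=
    IH φ.range (Additive W) (Group.isSolvable_of_surjective φ.rangeRestrict_surjective) hoddR hcr
      (hVW.trans_le hEn)
  have hoddH : Odd (Nat.card H') := hoddR.of_dvd_nat (Subgroup.card_subgroup_dvd_card H')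
  have hmoves : ∀ g : φ.range, g ≠ 1 → ∃ v : Additive W, g • v ≠ v := fun g hg => by
    by_contra h
    push Not at h
    exact hg (hfaith g h)
  refine ⟨E, Nat.card H', hcardC, hEt, hoddE, h9, card_ne_twentyseven b halt hnd, hsq, hrq, ?_, ?_, ?_, ?_⟩
  · have := four_mul_card_le (V := Additive W) hoddR (hVW ▸ hoddE) hpair H' fun g _ => hfaith g
    rwa [hVW] at this
  all_goals intro hEr
  · haveI := Fact.mk Nat.prime_three
    have hV9 : Nat.card (Additive W) = 3 ^ 2 := by rw [hVW, hEr]; norm_num
    have hp : IsPGroup 3 H' := by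
      refine IsPGroup.of_card (Nat.eq_prime_pow_of_unique_prime_dvd Nat.card_pos.ne' fun {m} hm hd => ?_)
      haveI := Fact.mk hm
      obtain ⟨g, hg⟩ := exists_prime_orderOf_dvd_card' (G := H') m hd
      rw [← Subgroup.orderOf_coe] at hg
      obtain ⟨i, hi, -, hmod⟩ := exists_fix_exponent (r := 3) Nat.prime_three hV9 hg
        (hmoves _ fun h => by rw [h, orderOf_one] at hg; exact hm.one_lt.ne hg)
      have h2 : m ∣ 3 ^ 2 - 3 ^ i := (Nat.modEq_iff_dvd' (Nat.pow_le_pow_right (by norm_num) hi.le)).mp hmod.symm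
      have hm2 : m ≠ 2 := fun h => Nat.not_even_iff_odd.mpr hoddH (even_iff_two_dvd.mpr (h ▸ hd))
      exact fix_primes_nine hm hi hm2 h2
    have hbot : H' = ⊥ := (Subgroup.eq_bot_iff_forall H').mpr fun g hg =>
      hfaith g (trivial_of_pGroup hV9 hcr H' hp g hg)
    rw [hbot, Subgroup.card_bot]
  · haveI : Fact (Nat.Prime 5) := ⟨by norm_num⟩
    haveI := Fact.mk Nat.prime_three
    have hV25 : Nat.card (Additive W) = 5 ^ 2 := by rw [hVW, hEr]; norm_num
    have hd : Nat.card H' ∣ 3 * (3 - 1) := by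
      refine small_bound (r := 5) (a := 2) (ℓ := 3) hV25 hcr H' (fun g _ => hfaith g) ?_ ?_ ?_ (by norm_num)
      · intro m hm hd
        haveI := Fact.mk hm
        obtain ⟨g, hg⟩ := exists_prime_orderOf_dvd_card' (G := H') m hd
        rw [← Subgroup.orderOf_coe] at hg
        obtain ⟨i, hi, -, hmod⟩ := exists_fix_exponent (r := 5) (Fact.out) hV25 hg
          (hmoves _ fun h => by rw [h, orderOf_one] at hg; exact hm.one_lt.ne hg)
        have h2 : m ∣ 5 ^ 2 - 5 ^ i := (Nat.modEq_iff_dvd' (Nat.pow_le_pow_right (by norm_num) hi.le)).mp hmod.symm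
        have hm2 : m ≠ 2 := fun h => Nat.not_even_iff_odd.mpr hoddH (even_iff_two_dvd.mpr (h ▸ hd))
        exact fix_primes_twentyfive hm hi hm2 h2
      · intro i h0 hi; interval_cases i; decide
      · intro i h0 hi; interval_cases i; decide
    exact odd_dvd_six hoddH hd
  · haveI : Fact (Nat.Prime 5) := ⟨by norm_num⟩
    haveI := Fact.mk Nat.prime_three
    have hV81 : Nat.card (Additive W) = 3 ^ 4 := by rw [hVW, hEr]; norm_num
    have hd : Nat.card H' ∣ 5 * (5 - 1) := by
      refine small_bound (r := 3) (a := 4) (ℓ := 5) hV81 hcr H' (fun g _ => hfaith g) ?_ ?_ ?_ (by norm_num)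
      · intro m hm hd
        haveI := Fact.mk hm
        obtain ⟨g, hg⟩ := exists_prime_orderOf_dvd_card' (G := H') m hd
        rw [← Subgroup.orderOf_coe] at hg
        obtain ⟨i, hi, hfix, hmod⟩ := exists_fix_exponent (r := 3) Nat.prime_three hV81 hg
          (hmoves _ fun h => by rw [h, orderOf_one] at hg; exact hm.one_lt.ne hg)
        have h2 : m ∣ 3 ^ 4 - 3 ^ i := (Nat.modEq_iff_dvd' (Nat.pow_le_pow_right (by norm_num) hi.le)).mp hmod.symm
        have hm2 : m ≠ 2 := fun h => Nat.not_even_iff_odd.mpr hoddH (even_iff_two_dvd.mpr (h ▸ hd))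
        rcases fix_primes_eightyone hm hi hm2 h2 with h | h | ⟨h13, hi1⟩
        · exact Or.inl h
        · exact Or.inr h
        · exfalso
          subst h13
          rw [hi1, pow_one] at hfix
          obtain ⟨c, hc, hcg⟩ := g.2
          have hc' : φ c = ((g : φ.range) : MulAut W) := congrArg Subtype.val hcg
          refine no_thirteen b halt hnd hEr (φ c) (by rw [hc', Subgroup.orderOf_coe]; exact hg)
            (Units.mapEquiv (D.σ c).toMulEquiv) ?_ ?_
          · intro v w
            obtain ⟨x, rfl⟩ := hsurj v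
            obtain ⟨y, rfl⟩ := hsurj w
            rw [hφ, hφ, hb, hb, hform]
            rfl
          · rw [← hfix]
            refine Nat.card_congr
              { toFun := fun w => ⟨Additive.ofMul w.1, ?_⟩
                invFun := fun w => ⟨w.1.toMul, ?_⟩
                left_inv := fun w => rfl
                right_inv := fun w => rfl }
            · intro h hh
              have hst : (g : φ.range) ∈ MulAction.stabilizer φ.range (Additive.ofMul w.1) := by
                show Additive.ofMul (((g : φ.range) : MulAut W) w.1) = Additive.ofMul w.1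
                rw [← hc', w.2]
              exact (Subgroup.zpowers_le.mpr hst) hh
            · have := w.2 (g : φ.range) (Subgroup.mem_zpowers _)
              rw [hc']
              exact Additive.ofMul.injective this
      · intro i h0 hi; interval_cases i <;> decide
      · intro i h0 hi; interval_cases i <;> decide
    exact odd_dvd_twenty hoddH hd

end Cfsg.Agent.BaseTwo
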