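import Mathlib

/-!
# Alternating nondegenerate pairings on finite abelian groups
-/

set_option autoImplicit false

namespace Cfsg.Agent.BaseTwo

variable {W G : Type*} [CommGroup W] [Finite W] [CommGroup G]

theorem pairing_skew (b : W →* W →* G) (halt : ∀ w, b w w = 1) (v w : W) : b w v = (b v w)⁻¹ := by
  have h := halt (v * w)
  simp only [map_mul, MonoidHom.mul_apply, halt, one_mul, mul_one] at h
  exact eq_inv_of_mul_eq_one_left h

/-- Each prime divisor of the order occurs at least squared. -/
theorem sq_dvd_card (b : W →* W →* G) (halt : ∀ w, b w w = 1) (hnd : ∀ w, b w = 1 → w = 1)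
    {r : ℕ} (hr : r.Prime) (hd : r ∣ Nat.card W) : r ^ 2 ∣ Nat.card W := by
  haveI := Fact.mk hr
  by_contra hsq
  obtain ⟨f, hf⟩ := exists_prime_orderOf_dvd_card' (G := W) r hd
  have hf1 : f ≠ 1 := fun h => hr.one_lt.ne' (by rw [← hf, h, orderOf_one])
  refine hf1 (hnd f (MonoidHom.ext fun m => ?_))
  set S := Subgroup.zpowers f with hS
  have hScard : Nat.card S = r := by rw [hS, Nat.card_zpowers, hf]
  have hidx : S.index = Nat.card W / r := by
    rw [← S.card_mul_index, hScard, Nat.mul_div_cancel_left _ hr.pos]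
  have hcop : r.Coprime S.index := by
    rw [hr.coprime_iff_not_dvd]
    intro h
    apply hsq
    rw [← S.card_mul_index, hScard, pow_two]
    exact mul_dvd_mul_left r h
  have hpow : m ^ S.index ∈ S := S.pow_index_mem m
  obtain ⟨k, hk⟩ := Subgroup.mem_zpowers_iff.mp hpow
  have h1 : b f m ^ S.index = 1 := by rw [← map_pow, ← hk, map_zpow, halt, one_zpow]
  have h2 : b f m ^ r = 1 := by
    have e : f ^ r = 1 := by rw [← hf]; exact pow_orderOf_eq_one f
    rw [← MonoidHom.pow_apply, ← map_pow, e, map_one, MonoidHom.one_apply]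
  have h3 := pow_gcd_eq_one.mpr ⟨h2, h1⟩
  rw [hcop.gcd_eq_one, pow_one] at h3
  exact h3

/-- A prime divisor of the order divides the order of the group of values. -/
theorem prime_dvd_card_values [Finite G] (b : W →* W →* G) (hnd : ∀ w, b w = 1 → w = 1)
    {r : ℕ} (hr : r.Prime) (hd : r ∣ Nat.card W) : r ∣ Nat.card G := by
  haveI := Fact.mk hr
  obtain ⟨f, hf⟩ := exists_prime_orderOf_dvd_card' (G := W) r hd
  obtain ⟨m, hm⟩ : ∃ m, b f m ≠ 1 := by
    by_contra h
    push Not at h
    have := hnd f (MonoidHom.ext h)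
    rw [this, orderOf_one] at hf
    exact hr.one_lt.ne hf
  have h2 : b f m ^ r = 1 := by
    have e : f ^ r = 1 := by rw [← hf]; exact pow_orderOf_eq_one f
    rw [← MonoidHom.pow_apply, ← map_pow, e, map_one, MonoidHom.one_apply]
  rw [← orderOf_eq_prime h2 hm]
  exact orderOf_dvd_natCard _

/-- The kernel of pairing with an element of order three. -/
theorem card_ker_pairing [Finite G] [IsCyclic G] (b : W →* W →* G) (hnd : ∀ w, b w = 1 → w = 1)
    {f : W} (hf : orderOf f = 3) :
    3 * Nat.card (b f).ker = Nat.card W ∧ ∀ u : G, u ^ 3 = 1 → u ∈ (b f).range := by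
  classical
  haveI := Fintype.ofFinite G
  have hpow : ∀ m, b f m ^ 3 = 1 := fun m => by
    rw [← MonoidHom.pow_apply, ← map_pow, ← hf, pow_orderOf_eq_one, map_one, MonoidHom.one_apply]
  obtain ⟨m, hm⟩ : ∃ m, b f m ≠ 1 := by
    by_contra h
    push Not at h
    have := hnd f (MonoidHom.ext h)
    rw [this, orderOf_one] at hf
    exact absurd hf (by decide)
  haveI := Fact.mk Nat.prime_three
  have ho : orderOf (b f m) = 3 := orderOf_eq_prime (hpow m) hm
  have hsub : ∀ u : G, u ^ 3 = 1 → u ∈ Subgroup.zpowers (b f m) := by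
    have h1 : Finset.univ.filter (fun x : G => x ∈ Subgroup.zpowers (b f m)) =
        Finset.univ.filter (fun x : G => x ^ 3 = 1) := by
      refine Finset.eq_of_subset_of_card_le (fun x hx => ?_) ?_
      · simp only [Finset.mem_filter, Finset.mem_univ, true_and] at hx ⊢
        obtain ⟨k, rfl⟩ := Subgroup.mem_zpowers_iff.mp hx
        rw [← zpow_natCast, ← zpow_mul, mul_comm, zpow_mul, zpow_natCast, hpow, one_zpow]
      · refine (IsCyclic.card_pow_eq_one_le (by norm_num)).trans ?_
        rw [← Fintype.card_subtype, ← Nat.card_eq_fintype_card]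
        exact le_of_eq (by rw [← ho, ← Nat.card_zpowers])
    intro u hu
    have : u ∈ Finset.univ.filter (fun x : G => x ^ 3 = 1) := by simpa using hu
    rw [← h1] at this
    exact (Finset.mem_filter.mp this).2
  have hrange : (b f).range = Subgroup.zpowers (b f m) := by
    refine le_antisymm ?_ (Subgroup.zpowers_le.mpr ⟨m, rfl⟩)
    rintro _ ⟨x, rfl⟩
    exact hsub _ (hpow x)
  refine ⟨?_, fun u hu => hrange ▸ hsub u hu⟩
  rw [← (b f).ker.card_mul_index, Subgroup.index_ker, hrange, Nat.card_zpowers, ho, mul_comm]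

/-- The order is not twenty seven. -/
theorem card_ne_twentyseven [Finite G] [IsCyclic G] (b : W →* W →* G) (halt : ∀ w, b w w = 1)
    (hnd : ∀ w, b w = 1 → w = 1) : Nat.card W ≠ 27 := by
  intro hcard
  haveI := Fact.mk Nat.prime_three
  obtain ⟨f, hf⟩ := exists_prime_orderOf_dvd_card' (G := W) 3 (by rw [hcard]; norm_num)
  obtain ⟨hker, hrange⟩ := card_ker_pairing b hnd hf
  set P := (b f).ker with hP
  have hP9 : Nat.card P = 9 := by omega
  have hfP : Subgroup.zpowers f ≤ P := Subgroup.zpowers_le.mpr (halt f)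
  have hne : ¬ P ≤ Subgroup.zpowers f := fun h => by
    have := Subgroup.card_le_of_le h
    rw [Nat.card_zpowers, hf, hP9] at this
    omega
  obtain ⟨g, hgP, hgf⟩ := Set.not_subset.mp hne
  set S := Subgroup.zpowers f ⊔ Subgroup.zpowers g with hSdef
  have hSP : S ≤ P := sup_le hfP (Subgroup.zpowers_le.mpr hgP)
  have hSeq : S = P := by
    refine Subgroup.eq_of_le_of_card_ge hSP ?_
    rw [hP9]
    have hd : Nat.card S ∣ 9 := hP9 ▸ Subgroup.card_dvd_of_le hSP
    have h3 : 3 ∣ Nat.card S := by
      have := Subgroup.card_dvd_of_le (le_sup_left : Subgroup.zpowers f ≤ S)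
      rwa [Nat.card_zpowers, hf] at this
    have hlt : 3 < Nat.card S := by
      by_contra h
      refine hgf ?_
      have := Subgroup.eq_of_le_of_card_ge (le_sup_left : Subgroup.zpowers f ≤ S)
        (by rw [Nat.card_zpowers, hf]; exact Nat.le_of_not_lt h)
      rw [this]
      exact Subgroup.mem_sup_right (Subgroup.mem_zpowers g)
    obtain ⟨k, hk, hk'⟩ := (Nat.dvd_prime_pow Nat.prime_three).mp (show Nat.card S ∣ 3 ^ 2 from hd)
    interval_cases k <;> simp only [pow_zero, pow_one, pow_two] at hk' <;> omega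
  have hgkill : P ≤ (b g).ker := by
    rw [← hSeq]
    refine sup_le (Subgroup.zpowers_le.mpr ?_) (Subgroup.zpowers_le.mpr (halt g))
    show b g f = 1
    rw [pairing_skew b halt f g, show b f g = 1 from hgP, inv_one]
  obtain ⟨w, hw⟩ : ∃ w, w ∉ P := by
    by_contra h
    push Not at h
    rw [(Subgroup.eq_top_iff' P).mpr h, Subgroup.card_top] at hP9
    omega
  have hidx : P.index = 3 := by
    have := P.card_mul_index
    rw [hP9, hcard] at this
    omega
  have hw3 : b g w ^ 3 = 1 := by
    rw [← map_pow]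
    exact hgkill (hidx ▸ P.pow_index_mem w)
  obtain ⟨x, hx⟩ := hrange _ hw3
  -- the generated quotient is cyclic of order three
  have hquot : ∀ x : W, ∃ i : ℤ, (w ^ i)⁻¹ * x ∈ P := by
    haveI : P.Normal := inferInstance
    intro x
    have hq : Nat.card (W ⧸ P) = 3 := by rw [← Subgroup.index_eq_card, hidx]
    have hw' : (QuotientGroup.mk w : W ⧸ P) ≠ 1 := fun h => hw ((QuotientGroup.eq_one_iff w).mp h)
    obtain ⟨i, hi⟩ := Subgroup.mem_zpowers_iff.mp (mem_zpowers_of_prime_card hq hw' (g' := (QuotientGroup.mk x : W ⧸ P)))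
    exact ⟨i, QuotientGroup.eq.mp (by rw [← hi]; exact (QuotientGroup.mk_zpow P w i))⟩
  obtain ⟨i, hi⟩ := hquot x
  have e1 : b f x = b f w ^ i := by
    have : b f ((w ^ i)⁻¹ * x) = 1 := hi
    rw [map_mul, map_inv, map_zpow, inv_mul_eq_one] at this
    exact this.symm
  have hzero : b ((f ^ i)⁻¹ * g) = 1 := by
    refine MonoidHom.ext fun y => ?_
    obtain ⟨j, hj⟩ := hquot y
    have h1 : b f ((w ^ j)⁻¹ * y) = 1 := hj
    have h2 : b g ((w ^ j)⁻¹ * y) = 1 := hgkill hj
    rw [map_mul, map_inv, map_zpow, inv_mul_eq_one] at h1 h2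
    rw [map_mul, map_inv, map_zpow, MonoidHom.mul_apply, MonoidHom.inv_apply, MonoidHom.one_apply,
      inv_mul_eq_one, ← h2, ← hx, e1, show (b f ^ i) y = b f y ^ i from rfl, ← h1, ← zpow_mul, ← zpow_mul,
      mul_comm]
  refine hgf ?_
  have := hnd _ hzero
  rw [inv_mul_eq_one] at this
  exact Subgroup.mem_zpowers_iff.mpr ⟨i, this⟩

/-- No automorphism of order thirteen with three fixed points on a pairing of order eighty one. -/
theorem no_thirteen [Finite G] [IsCyclic G] (b : W →* W →* G) (halt : ∀ w, b w w = 1)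
    (hnd : ∀ w, b w = 1 → w = 1) (hW : Nat.card W = 81) (g : MulAut W) (hg : orderOf g = 13)
    (s : MulAut G) (heq : ∀ v w, b (g v) (g w) = s (b v w)) (hfix : Nat.card {w : W // g w = w} = 3) :
    False := by
  classical
  haveI := Fact.mk Nat.prime_three
  haveI := Fact.mk (show Nat.Prime 13 by norm_num)
  let F : Subgroup W := (g.toMonoidHom).eqLocus (MonoidHom.id W)
  have hF : Nat.card F = 3 := hfix
  obtain ⟨f₀, hf₀⟩ := exists_prime_orderOf_dvd_card' (G := F) 3 (by rw [hF])
  set f : W := (f₀ : W) with hfdef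
  have hf : orderOf f = 3 := by rw [hfdef, orderOf_submonoid, hf₀]
  have hgf : g f = f := f₀.2
  obtain ⟨hker, -⟩ := card_ker_pairing b hnd hf
  set P := (b f).ker with hP
  have hinv : ∀ w ∈ P, g w ∈ P := fun w hw => by
    show b f (g w) = 1
    rw [← hgf, heq, show b f w = 1 from hw, map_one]
  have hFP : ∀ w : W, g w = w → w ∈ P := by
    intro w hw
    obtain ⟨k, hk⟩ := Subgroup.mem_zpowers_iff.mp (mem_zpowers_of_prime_card hF
      (fun h => by rw [h, orderOf_one] at hf₀; exact absurd hf₀ (by decide)) (g := f₀) (g' := (⟨w, hw⟩ : F)))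
    have : f ^ k = w := by simpa using congrArg Subtype.val hk
    rw [← this]
    exact P.zpow_mem (halt f) k
  -- the cyclic group acts on the kernel
  let S : Subgroup (MulAut W) :=
    { carrier := {h | ∀ w, w ∈ P ↔ h w ∈ P}
      one_mem' := fun w => Iff.rfl
      mul_mem' := fun {a c} ha hc w => (hc w).trans (ha (c w))
      inv_mem' := fun {a} ha w => by
        have := (ha (a⁻¹ w)).symm
        rwa [MulAut.apply_inv_self] at this }
  have hgS : Subgroup.zpowers g ≤ S := by
    rw [Subgroup.zpowers_le]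
    intro w
    refine ⟨hinv w, fun h => ?_⟩
    have hk : ∀ k, (g ^ k) (g w) ∈ P := fun k => by
      induction k with
      | zero => exact h
      | succ k ih => rw [pow_succ']; exact hinv _ ih
    have := hk 12
    rw [← MulAut.mul_apply, ← pow_succ, show 12 + 1 = orderOf g by rw [hg], pow_orderOf_eq_one] at this
    exact this
  letI : MulAction (Subgroup.zpowers g) P :=
    { smul := fun h w => ⟨(h : MulAut W) w, (hgS h.2 w).mp w.2⟩
      one_smul := fun w => Subtype.ext rfl
      mul_smul := fun a c w => Subtype.ext rfl }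
  have hmod := (IsPGroup.of_card (p := 13) (n := 1) (G := Subgroup.zpowers g)
    (by rw [Nat.card_zpowers, hg, pow_one])).card_modEq_card_fixedPoints P
  have hfp : Nat.card (MulAction.fixedPoints (Subgroup.zpowers g) P) = 3 := by
    rw [← hfix]
    refine Nat.card_congr
      { toFun := fun x => ⟨x.1.1, congrArg Subtype.val (x.2 ⟨g, Subgroup.mem_zpowers g⟩)⟩
        invFun := fun w => ⟨⟨w.1, hFP w.1 w.2⟩, fun h => Subtype.ext ?_⟩
        left_inv := fun x => rfl
        right_inv := fun w => rfl }
    obtain ⟨k, hk⟩ := Subgroup.mem_zpowers_iff.mp h.2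
    have hst : g ∈ MulAction.stabilizer (MulAut W) w.1 := w.2
    have := Subgroup.zpow_mem _ hst k
    rw [hk] at this
    exact this
  rw [hfp, show Nat.card P = 27 by omega] at hmod
  exact absurd hmod (by decide)

end Cfsg.Agent.BaseTwo
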