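import Cfsg.Agent.Lib.Grp.BaseTwo.LayerBounds
import Cfsg.Agent.Lib.Grp.BaseTwo.FieldGen

/-!
# The primitive case

An irreducible linear group of odd order in which every abelian normal subgroup generates a field
has a pair.
-/

set_option autoImplicit false
set_option linter.style.haveILetI false

universe u

namespace Cfsg.Agent.BaseTwo

open scoped commutatorElement

theorem succ_sq_le (b : ℕ) : (b + 1) * (b + 1) ≤ 4 * 2 ^ b := by
  induction b with
  | zero => norm_num
  | succ b ih =>
    rw [pow_succ]
    rcases Nat.lt_or_ge b 2 with h | h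
    · interval_cases b <;> norm_num
    · nlinarith

variable {A V K : Type u} [Group A] [Finite A] [AddCommGroup V] [Finite V] [Nontrivial V]
  [DistribMulAction A V] [FaithfulSMul A V] [Field K] [Finite K] [Module K V] {Z : Subgroup A} [Z.Normal]

omit [Finite A] [Finite V] [Finite K] [Z.Normal] [Nontrivial V] in
theorem card_fixPt_of_mem (D : SemiData A V K Z) {g : A} (hg : g ∈ Z) (hg1 : g ≠ 1) :
    Nat.card (fixPt (V := V) g) = 1 := by
  refine card_fixPt_of_scalar (k := (D.ι ⟨g, hg⟩ : K)) (fun v => D.scalar ⟨g, hg⟩ v) fun h => hg1 ?_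
  rw [Units.val_eq_one, map_eq_one_iff _ D.ι_injective] at h
  exact congrArg Subtype.val h

omit [Finite A] [Finite K] [Nontrivial V] in
/-- Elements outside the centraliser fix at most the square root. -/
theorem sq_fixPt_le_of_not_mem (D : SemiData A V K Z) {g : A} (hg : g ∉ Subgroup.centralizer (Z : Set A)) :
    Nat.card (fixPt (V := V) g) * Nat.card (fixPt (V := V) g) ≤ Nat.card V := by
  rw [Subgroup.mem_centralizer_iff] at hg
  push Not at hg
  obtain ⟨z, hz, hne⟩ := hg
  refine (card_fixPt_sq_le g z).trans ?_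
  rw [card_fixPt_of_mem D ?_ ?_, mul_one]
  · rw [commutatorElement_def]
    exact Z.mul_mem (Subgroup.Normal.conj_mem inferInstance z hz g) (Z.inv_mem hz)
  · rw [Ne, commutatorElement_eq_one_iff_mul_comm]
    exact Ne.symm hne

omit [Finite A] [Finite K] [Z.Normal] [FaithfulSMul A V] [Nontrivial V] in
/-- The fixed points of a linear element form a power of the field order. -/
theorem exists_card_fixPt (D : SemiData A V K Z) {g : A} (hg : g ∈ Subgroup.centralizer (Z : Set A)) :
    ∃ d, Nat.card (fixPt (V := V) g) = Nat.card K ^ d := by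
  let S : Submodule K V :=
    { fixPt (V := V) g with
      smul_mem' := fun k v hv => by
        show g • k • v = k • v
        rw [D.linear hg, show g • v = v from hv] }
  exact ⟨Module.finrank K S, Module.natCard_eq_pow_finrank (K := K) (V := S)⟩

/-- The semilinear case. -/
theorem hasPair_semilinear (hsol : Group.IsSolvable A) (hodd : Odd (Nat.card A)) {n : ℕ}
    (hn : Nat.card V ≤ n + 1) (IH : ModHyp.{u} n) (D : SemiData A V K Z)
    (hZ : ∀ a ∈ Z, ∀ b ∈ Z, a * b = b * a)
    (hmax : ∀ Y : Subgroup A, Y.Normal → (∀ a ∈ Y, ∀ b ∈ Y, a * b = b * a) → Z ≤ Y → Y = Z) :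
    HasPair A V := by
  classical
  set C := Subgroup.centralizer (Z : Set A) with hC
  haveI : Fintype A := Fintype.ofFinite A
  haveI : Fintype V := Fintype.ofFinite V
  have hZC : Z ≤ C := fun z hz => Subgroup.mem_centralizer_iff.mpr fun w hw => hZ w hw z hz
  set q := Nat.card K with hqdef
  set t := Module.finrank K V with htdef
  have hVq : Nat.card V = q ^ t := Module.natCard_eq_pow_finrank
  have hb : Odd C.index := hodd.of_dvd_nat C.index_dvd_card
  have hbq : 2 ^ C.index ≤ q := by
    refine le_trans (Nat.pow_le_pow_right (by norm_num) ?_) (two_pow_card_ringAut_le K)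
    rw [hC, ← D.ker_eq, Subgroup.index_ker]
    haveI : Finite (RingAut K) := Finite.of_injective (fun e : RingAut K => (e : K → K)) DFunLike.coe_injective
    exact Subgroup.card_le_card_group _
  have hb0 : 0 < C.index := Nat.pos_of_ne_zero Subgroup.index_ne_zero_of_finite
  by_contra hno
  rcases eq_or_lt_of_le hZC with hZeq | hlt
  · -- the centraliser is the normal subgroup itself
    refine hno ?_
    obtain ⟨v, hv⟩ := exists_ne (0 : V)
    let S := MulAction.stabilizer A v
    have hSZ : ∀ g ∈ S, g ∈ Z → g = 1 := by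
      intro g hg hgZ
      by_contra hne
      have h1 := card_fixPt_of_mem D hgZ hne
      rw [AddSubgroup.card_eq_one] at h1
      have : v ∈ fixPt (V := V) g := hg
      rw [h1, AddSubgroup.mem_bot] at this
      exact hv this
    have hScard : Nat.card S ≤ C.index := by
      rw [← hZeq, Subgroup.index_eq_card]
      refine Nat.card_le_card_of_injective (fun g : S => (QuotientGroup.mk (g : A) : A ⧸ Z)) fun g g' h => ?_
      rw [QuotientGroup.eq] at h
      exact Subtype.ext (inv_mul_eq_one.mp (hSZ _ (S.mul_mem (S.inv_mem g.2) g'.2) h))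
    obtain ⟨w, hw⟩ : ∃ w : V, ∀ g : S, (g : A) • w = w → g = 1 := by
      by_contra hall
      push Not at hall
      haveI : Fintype S := Fintype.ofFinite S
      have hcount := two_mul_card_le_sum (A := S) (hodd.of_dvd_nat S.card_subgroup_dvd_card)
        (fun g (w : V) => (g : A) • w = w)
        (fun g w h => by show ((g⁻¹ : S) : A) • w = w; rw [Subgroup.coe_inv, inv_smul_eq_iff, h])
        (fun w => by obtain ⟨g, hg, hg1⟩ := hall w; exact ⟨g, hg1, hg⟩)
      have hbound : ∀ g ∈ Finset.univ.filter (fun g : S => g ≠ 1),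
          (Finset.univ.filter (fun w : V => (g : A) • w = w)).card ≤ Nat.sqrt (Nat.card V) := by
        intro g hg
        rw [Nat.le_sqrt]
        have h := sq_fixPt_le_of_not_mem D (g := (g : A)) (by
          rw [← hC, ← hZeq]
          exact fun hgZ => (Finset.mem_filter.mp hg).2 (Subtype.ext (hSZ g g.2 hgZ)))
        rwa [show Nat.card (fixPt (V := V) (g : A)) = (Finset.univ.filter (fun w : V => (g : A) • w = w)).card by
          rw [← Fintype.card_subtype, ← Nat.card_eq_fintype_card]; rfl] at h
      have h2 := hcount.trans (Finset.sum_le_card_nsmul _ _ _ hbound)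
      rw [Finset.filter_ne', Finset.card_erase_of_mem (Finset.mem_univ _), Finset.card_univ, smul_eq_mul,
        ← Nat.card_eq_fintype_card, ← Nat.card_eq_fintype_card] at h2
      set s := Nat.sqrt (Nat.card V) with hs
      have h3 : s * s ≤ Nat.card V := Nat.sqrt_le _
      have h4 : Nat.card V < (s + 1) * (s + 1) := Nat.lt_succ_sqrt _
      have h5 : (Nat.card S - 1) * s ≤ (C.index - 1) * s := Nat.mul_le_mul_right _ (by omega)
      have hs0 : 0 < s := Nat.sqrt_pos.mpr Nat.card_pos
      have h6 : 2 * s ≤ C.index - 1 := Nat.le_of_mul_le_mul_right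
        (le_trans (by rw [mul_assoc]; exact Nat.mul_le_mul_left 2 h3) (h2.trans h5)) hs0
      have hqV : q ≤ Nat.card V := by
        rw [hVq]
        exact Nat.le_self_pow (Module.finrank_pos (R := K) (M := V)).ne' q
      have h7 : (2 * (s + 1)) * (2 * (s + 1)) ≤ (C.index + 1) * (C.index + 1) :=
        Nat.mul_le_mul (by omega) (by omega)
      have := succ_sq_le C.index
      nlinarith
    refine ⟨v, w, fun g h1 h2 x => ?_⟩
    have := hw ⟨g, h1⟩ h2
    rw [show g = 1 from congrArg Subtype.val this, one_smul]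
  -- the layer
  obtain ⟨M, hMn, hZM, hMC, hcomm, hcenM, hcenC, hcompl⟩ := exists_layer hsol Z C hlt
    (fun z hz c hc => (Subgroup.mem_centralizer_iff.mp hc) z hz) hmax
  haveI := hMn
  obtain ⟨E, H, hcardC, hEt, hoddE, h9, h27, hsq, hrq, hH, hH9, hH25, hH81⟩ :=
    layer_bounds D hsol hodd hn IH M hZM hMC hcomm hcenM hcenC hcompl
  have ht : 3 ≤ t := by
    by_contra h
    have : t * t ≤ 2 * 2 := Nat.mul_le_mul (by omega) (by omega)
    have : E ≤ t * t := hEt
    omega
  set f := (t + t / 3) / 2 with hf
  have hq2 : 2 ≤ q := Finite.one_lt_card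
  have hin : ∀ g ∈ C, g ≠ 1 →
      Nat.card (fixPt (V := V) g) * Nat.card (fixPt (V := V) g) ≤ q ^ (2 * f) := by
    intro g hg hg1
    by_cases hgZ : g ∈ Z
    · rw [card_fixPt_of_mem D hgZ hg1, one_mul]
      exact Nat.one_le_pow _ _ (by omega)
    obtain ⟨x, hx, hgx⟩ : ∃ x ∈ M, g * x ≠ x * g := by
      by_contra h
      push Not at h
      exact hgZ (hcenC g hg h)
    set y := ⁅g, x⁆ with hy
    have hyM : y ∈ M := by
      rw [hy, commutatorElement_def]
      exact M.mul_mem (hMn.conj_mem x hx g) (M.inv_mem hx)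
    have hy1 : y ≠ 1 := fun h => hgx (commutatorElement_eq_one_iff_mul_comm.mp h)
    obtain ⟨e, he, he3⟩ : ∃ e, Nat.card (fixPt (V := V) y) = q ^ e ∧ 3 * e ≤ t := by
      obtain ⟨e, he⟩ := exists_card_fixPt D (hMC hyM)
      refine ⟨e, he, ?_⟩
      by_cases hyZ : y ∈ Z
      · rw [card_fixPt_of_mem D hyZ hy1] at he
        rcases Nat.pow_eq_one.mp he.symm with h | h
        · omega
        · omega
      obtain ⟨m, hm, hym⟩ : ∃ m ∈ M, y * m ≠ m * y := by
        by_contra h
        push Not at h
        exact hyZ (hcenM y hyM h)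
      have hc := hcomm y hyM m hm
      have hc1 : ⁅y, m⁆ ≠ 1 := fun h => hym (commutatorElement_eq_one_iff_mul_comm.mp h)
      have h3 := card_fixPt_cube_le (K := K) (y := y) (m := m) (ζ := (D.ι ⟨_, hc⟩ : K))
        (fun k v => D.linear (hMC hyM) k v) (fun k v => D.linear (hMC hm) k v)
        (fun v => by
          rw [← D.scalar, ← mul_smul, ← mul_smul, ← mul_smul]
          congr 1
          show y * m = ⁅y, m⁆ * m * y
          rw [commutatorElement_def]
          group)
        (Units.ne_zero _) ?_
      · rw [he, hVq, ← pow_mul, mul_comm] at h3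
        exact (Nat.pow_le_pow_iff_right (by omega)).mp h3
      · intro h
        rw [← Units.val_mul, Units.val_eq_one, ← map_mul, map_eq_one_iff _ D.ι_injective] at h
        refine hc1 ?_
        have h2 : ⁅y, m⁆ ^ 2 = 1 := by rw [pow_two]; exact congrArg Subtype.val h
        rcases (Nat.dvd_prime Nat.prime_two).mp (orderOf_dvd_of_pow_eq_one h2) with h4 | h4
        · exact orderOf_eq_one_iff.mp h4
        · exact absurd (h4 ▸ hodd.of_dvd_nat (orderOf_dvd_natCard _)) (by decide)
    obtain ⟨d, hd⟩ := exists_card_fixPt D hg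
    have hsq := card_fixPt_sq_le (V := V) g x
    rw [← hy, hd, he, hVq, ← pow_add, ← pow_add] at hsq
    have h2 := (Nat.pow_le_pow_iff_right (by omega)).mp hsq
    rw [hd, ← pow_add]
    exact Nat.pow_le_pow_right (by omega) (by omega)
  have hout : ∀ g ∉ C, Nat.card (fixPt (V := V) g) * Nat.card (fixPt (V := V) g) ≤ q ^ t := fun g hg =>
    hVq ▸ sq_fixPt_le_of_not_mem D hg
  have hall : ∀ p : V × V, ∃ g : A, g ≠ 1 ∧ g • p.1 = p.1 ∧ g • p.2 = p.2 := by
    intro p
    by_contra h
    refine hno ⟨p.1, p.2, fun g h1 h2 x => ?_⟩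
    have : g = 1 := by_contra fun hne => h ⟨g, hne, h1, h2⟩
    rw [this, one_smul]
  have hcount := two_mul_card_le_sum hodd (fun g (p : V × V) => g • p.1 = p.1 ∧ g • p.2 = p.2)
    (fun g p h => ⟨inv_smul_eq_iff.mpr h.1.symm, inv_smul_eq_iff.mpr h.2.symm⟩) hall
  have hterm : ∀ g : A, (Finset.univ.filter (fun p : V × V => g • p.1 = p.1 ∧ g • p.2 = p.2)).card =
      Nat.card (fixPt (V := V) g) * Nat.card (fixPt (V := V) g) := by
    intro g
    rw [← Fintype.card_subtype, ← Nat.card_eq_fintype_card, ← Nat.card_prod]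
    exact Nat.card_congr
      { toFun := fun p => (⟨p.1.1, p.2.1⟩, ⟨p.1.2, p.2.2⟩)
        invFun := fun p => ⟨(p.1.1, p.2.1), p.1.2, p.2.2⟩
        left_inv := fun p => rfl
        right_inv := fun p => rfl }
  simp only [hterm] at hcount
  have hsum : ∑ g ∈ Finset.univ.filter (fun g : A => g ≠ 1),
      Nat.card (fixPt (V := V) g) * Nat.card (fixPt (V := V) g) ≤
      ∑ g : A, (if g ∈ C then q ^ (2 * f) else q ^ t) := by
    refine le_trans (Finset.sum_le_sum fun g hg => ?_) (Finset.sum_le_sum_of_subset (Finset.subset_univ _))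
    split_ifs with h
    · exact hin g h (Finset.mem_filter.mp hg).2
    · exact hout g h
  rw [Finset.sum_ite, Finset.sum_const, Finset.sum_const, smul_eq_mul, smul_eq_mul] at hsum
  have hc1 : (Finset.univ.filter (fun g : A => g ∈ C)).card = Nat.card C := by
    rw [← Fintype.card_subtype, Nat.card_eq_fintype_card]
  have hc2 : (Finset.univ.filter (fun g : A => ¬ g ∈ C)).card = Nat.card C * (C.index - 1) := by
    have h := Finset.card_filter_add_card_filter_not (s := Finset.univ) (fun g : A => g ∈ C)
    rw [Finset.card_univ, hc1, ← Nat.card_eq_fintype_card, ← C.card_mul_index] at h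
    rw [Nat.mul_sub, mul_one]
    omega
  rw [hc1, hc2] at hsum
  have hZq : Nat.card Z ≤ q - 1 := by
    rw [hqdef, ← Nat.card_units]
    exact Nat.card_le_card_of_injective _ D.ι_injective
  have hq : IsPrimePow q := by
    haveI := Fintype.ofFinite K
    rw [hqdef, Nat.card_eq_fintype_card]
    exact FiniteField.isPrimePow_card K
  have hfinal := count_bound hq hb hbq ht hEt hoddE h9 h27 hsq hrq hH hH9 hH25 hH81
    (show 2 * f ≤ t + t / 3 by omega)
  have hV2 : Fintype.card (V × V) = q ^ (2 * t) := by
    rw [← Nat.card_eq_fintype_card, Nat.card_prod, hVq, ← pow_add, two_mul]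
  rw [hV2] at hcount
  have h1 := hcount.trans hsum
  have h2 : Nat.card C * q ^ (2 * f) + Nat.card C * (C.index - 1) * q ^ t ≤
      (q - 1) * E * H * ((C.index - 1) * q ^ t + q ^ (2 * f)) := by
    rw [hcardC]
    calc _ = Nat.card Z * E * H * ((C.index - 1) * q ^ t + q ^ (2 * f)) := by ring
      _ ≤ _ := by gcongr
  omega

/-- An irreducible linear group of odd order has a pair. -/
theorem hasPair_irreducible {V : Type u} [AddCommGroup V] [Finite V] [Nontrivial V]
    (A : Subgroup (AddMonoid.End V)ˣ) (hsol : Group.IsSolvable A) (hodd : Odd (Nat.card A))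
    (hirr : IsIrr A V) {n : ℕ} (hn : Nat.card V ≤ n + 1) (IH : ModHyp.{u} n) : HasPair A V := by
  haveI : FaithfulSMul A V := ⟨fun {a b} h => Subtype.ext (Units.ext (AddMonoidHom.ext h))⟩
  by_contra hno
  obtain ⟨Z, ⟨hZn, hZ⟩, hmax⟩ :=
    ({Y : Subgroup A | Y.Normal ∧ ∀ a ∈ Y, ∀ b ∈ Y, a * b = b * a}).toFinite.exists_maximal
      ⟨⊥, inferInstance, fun a ha b hb => by rw [Subgroup.mem_bot.mp ha, Subgroup.mem_bot.mp hb]⟩
  haveI := hZn
  have hK : IsField (genRing Z) := (hasPair_or_isField hsol hodd hirr hn IH Z hZ).resolve_left hno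
  letI : Field (genRing Z) := hK.toField
  haveI : Finite (genRing Z) := Subtype.finite
  let σhom : A → RingAut (genRing Z) := fun a =>
    { toFun := fun r => ⟨toEnd A a * r * toEnd A a⁻¹, conj_mem_genRing a r r.2⟩
      invFun := fun r => ⟨toEnd A a⁻¹ * r * toEnd A a⁻¹⁻¹, conj_mem_genRing a⁻¹ r r.2⟩
      left_inv := fun r => Subtype.ext (by
        show toEnd A a⁻¹ * (toEnd A a * r * toEnd A a⁻¹) * toEnd A a⁻¹⁻¹ = r
        simp only [← mul_assoc, ← map_mul, inv_mul_cancel, map_one, one_mul]
        rw [mul_assoc, ← map_mul, mul_inv_cancel, map_one, mul_one])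
      right_inv := fun r => Subtype.ext (by
        show toEnd A a * (toEnd A a⁻¹ * r * toEnd A a⁻¹⁻¹) * toEnd A a⁻¹ = r
        simp only [← mul_assoc, ← map_mul, mul_inv_cancel, map_one, one_mul]
        rw [mul_assoc, ← map_mul, inv_mul_cancel, map_one, mul_one])
      map_mul' := fun r s => Subtype.ext (by
        show toEnd A a * (r.1 * s.1) * toEnd A a⁻¹ = (toEnd A a * r.1 * toEnd A a⁻¹) * (toEnd A a * s.1 * toEnd A a⁻¹)
        calc toEnd A a * (r.1 * s.1) * toEnd A a⁻¹
            = toEnd A a * r.1 * (toEnd A a⁻¹ * toEnd A a) * s.1 * toEnd A a⁻¹ := by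
              rw [← map_mul, inv_mul_cancel, map_one]; noncomm_ring
          _ = _ := by noncomm_ring)
      map_add' := fun r s => Subtype.ext (by
        show toEnd A a * (r.1 + s.1) * toEnd A a⁻¹ = toEnd A a * r.1 * toEnd A a⁻¹ + toEnd A a * s.1 * toEnd A a⁻¹
        rw [mul_add, add_mul]) }
  let D : SemiData A V (genRing Z) Z :=
    { σ := MonoidHom.mk' σhom fun a b => RingEquiv.ext fun r => Subtype.ext (by
        show toEnd A (a * b) * r.1 * toEnd A (a * b)⁻¹ = toEnd A a * (toEnd A b * r.1 * toEnd A b⁻¹) * toEnd A a⁻¹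
        rw [mul_inv_rev, map_mul, map_mul]
        noncomm_ring)
      semilinear := fun a k v => by
        show a • (k : AddMonoid.End V) v = toEnd A a ((k : AddMonoid.End V) (toEnd A a⁻¹ (a • v)))
        rw [toEnd_apply a⁻¹, inv_smul_smul]
        rfl
      ι := ({ toFun := fun z => ⟨toEnd A z, toEnd_mem_genRing z.2⟩
              map_one' := Subtype.ext (map_one _)
              map_mul' := fun z w => Subtype.ext (map_mul _ _ _) } : Z →* genRing Z).toHomUnits
      scalar := fun z v => rfl
      ker_eq := by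
        ext a
        rw [MonoidHom.mem_ker, Subgroup.mem_centralizer_iff]
        constructor
        · intro h z hz
          have e := congrArg Subtype.val (RingEquiv.congr_fun h (⟨toEnd A z, toEnd_mem_genRing hz⟩ : genRing Z))
          change toEnd A a * toEnd A z * toEnd A a⁻¹ = toEnd A z at e
          rw [← map_mul, ← map_mul] at e
          have e' : a * z * a⁻¹ = z := Subtype.ext (Units.ext e)
          rw [mul_inv_eq_iff_eq_mul] at e'
          exact e'.symm
        · intro h
          refine RingEquiv.ext fun r => Subtype.ext ?_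
          show toEnd A a * r.1 * toEnd A a⁻¹ = r.1
          rw [toEnd_commute_genRing (fun z hz => (h z hz).symm) r.1 r.2, mul_assoc, ← map_mul, mul_inv_cancel,
            map_one, mul_one] }
  exact hno (hasPair_semilinear hsol hodd hn IH D hZ fun Y hYn hY hle =>
    le_antisymm (hmax ⟨hYn, hY⟩ hle) hle)

end Cfsg.Agent.BaseTwo
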